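import Groth.Agent.H23.Frame
import Groth.Agent.H23.PullPush

/-!
Frames pull back to frames.
-/

universe u
set_option autoImplicit false
open CategoryTheory CategoryTheory.Limits AlgebraicGeometry TopologicalSpace Opposite

namespace PinchPO7
open Groth.Agent.H23

variable {X S : Scheme.{u}} {n : ℕ}

/-- The unit on sections. -/
noncomputable def unitSec (f : X ⟶ S) (M : S.Modules) {U : S.Opens} (x : Γ(M, U)) :
    Γ((Scheme.Modules.pullback f).obj M, f ⁻¹ᵁ U) :=
  ((Scheme.Modules.pullbackPushforwardAdjunction f).unit.app M).app U x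

theorem isFrame_of_biproduct {N : X.Modules} (ι : Fin n → (Coh.structureModule X ⟶ N))
    (π : Fin n → (N ⟶ Coh.structureModule X)) (ho : ∀ i j, ι j ≫ π i = if j = i then 𝟙 _ else 0)
    (ht : ∑ i, π i ≫ ι i = 𝟙 N) : Frame.IsFrame N (U := ⊤) fun i => (ι i).app ⊤ (Frame.one ⊤) := by
  intro W h
  have e : Frame.comb N (fun i => (ι i).app ⊤ (Frame.one ⊤)) W h =
      fun c => ∑ i, c i • (ι i).app W (Frame.one W) := funext fun c =>
    Finset.sum_congr rfl fun i _ => congrArg (c i • ·) (Frame.app_one_res (ι i) h)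
  rw [e]
  refine Function.bijective_iff_has_inverse.mpr
    ⟨fun x i => (show Γ(X, W) from (π i).app W x), fun c => funext fun j => ?_, fun x => ?_⟩
  · show (π j).app W (∑ i, c i • (ι i).app W (Frame.one W)) = _
    rw [map_sum, Finset.sum_eq_single j]
    · rw [Scheme.Modules.Hom.app_smul]
      have h : (π j).app W ((ι j).app W (Frame.one W)) = Frame.one W := by
        show (ι j ≫ π j).app W (Frame.one W) = _
        rw [ho, if_pos rfl]; rfl
      rw [h]
      exact mul_one (c j)
    · intro i _ hi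
      rw [Scheme.Modules.Hom.app_smul]
      have h : (π j).app W ((ι i).app W (Frame.one W)) = 0 := by
        show (ι i ≫ π j).app W (Frame.one W) = _
        rw [ho, if_neg hi]; rfl
      rw [h, smul_zero]
    · intro h; exact absurd (Finset.mem_univ j) h
  · have h : (∑ i, π i ≫ ι i).app W x = x := by
      rw [ht]; rfl
    rw [Frame.app_sum] at h
    refine Eq.trans (Finset.sum_congr rfl fun i _ => ?_) h
    exact (Frame.app_eq_smul (ι i) W _).symm

/-- The structure module pulls back to the structure module. -/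
noncomputable def unitIso (f : X ⟶ S) :
    (Scheme.Modules.pullback f).obj (Coh.structureModule S) ≅ Coh.structureModule X :=
  have : IsIso (SheafOfModules.pullbackObjUnitToUnit f.toRingCatSheafHom) := inferInstance
  @asIso _ _ ((Scheme.Modules.pullback f).obj (Coh.structureModule S)) (Coh.structureModule X)
    (SheafOfModules.pullbackObjUnitToUnit f.toRingCatSheafHom) this

theorem unitIso_unit_one (f : X ⟶ S) :
    (unitIso f).hom.app (f ⁻¹ᵁ ⊤) (unitSec f (Coh.structureModule S) (Frame.one ⊤)) = Frame.one (f ⁻¹ᵁ ⊤) := by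
  have h : (Scheme.Modules.pullbackPushforwardAdjunction f).unit.app (Coh.structureModule S) ≫
      (Scheme.Modules.pushforward f).map (unitIso f).hom =
        SheafOfModules.unitToPushforwardObjUnit f.toRingCatSheafHom :=
    (Adjunction.homEquiv_unit (Scheme.Modules.pullbackPushforwardAdjunction f) _ _ (unitIso f).hom).symm.trans
      (SheafOfModules.pullbackPushforwardAdjunction_homEquiv_pullbackObjUnitToUnit f.toRingCatSheafHom)
  refine (congrArg (fun φ : Coh.structureModule S ⟶ (Scheme.Modules.pushforward f).obj (Coh.structureModule X) =>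
    φ.app ⊤ (Frame.one ⊤)) h).trans ?_
  exact map_one (f.app ⊤).hom

theorem isFrame_unitSec_of_biproduct (g : X ⟶ S) {N : S.Modules} (ι : Fin n → (Coh.structureModule S ⟶ N))
    (π : Fin n → (N ⟶ Coh.structureModule S)) (ho : ∀ i j, ι j ≫ π i = if j = i then 𝟙 _ else 0)
    (ht : ∑ i, π i ≫ ι i = 𝟙 N) :
    Frame.IsFrame ((Scheme.Modules.pullback g).obj N) (U := g ⁻¹ᵁ ⊤)
      fun i => unitSec g N ((ι i).app ⊤ (Frame.one ⊤)) := by
  let e := unitIso g
  let ι' := fun i => e.inv ≫ (Scheme.Modules.pullback g).map (ι i)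
  let π' := fun i => (Scheme.Modules.pullback g).map (π i) ≫ e.hom
  have hb := isFrame_of_biproduct ι' π' (fun i j => by
    show (e.inv ≫ _) ≫ _ ≫ e.hom = _
    rw [Category.assoc, ← Functor.map_comp_assoc, ho]
    split_ifs
    · rw [CategoryTheory.Functor.map_id, Category.id_comp, e.inv_hom_id]
    · rw [Functor.map_zero, Limits.zero_comp, Limits.comp_zero]) (by
    refine Eq.trans (Finset.sum_congr rfl fun i _ => ?_)
      (show ∑ i, (Scheme.Modules.pullback g).map (π i ≫ ι i) = 𝟙 _ by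
        rw [← Functor.map_sum, ht, CategoryTheory.Functor.map_id])
    show (_ ≫ e.hom) ≫ e.inv ≫ _ = _
    rw [Category.assoc, e.hom_inv_id_assoc, Functor.map_comp])
  have hk : ∀ i, unitSec g N ((ι i).app ⊤ (Frame.one ⊤)) = (ι' i).app (g ⁻¹ᵁ ⊤) (Frame.one (g ⁻¹ᵁ ⊤)) := by
    intro i
    have h1 := congrArg (fun φ : Coh.structureModule S ⟶ _ => φ.app ⊤ (Frame.one ⊤))
      ((Scheme.Modules.pullbackPushforwardAdjunction g).unit.naturality (ι i))
    refine h1.trans ?_
    show ((Scheme.Modules.pullback g).map (ι i)).app (g ⁻¹ᵁ ⊤) (unitSec g _ (Frame.one ⊤)) =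
      ((Scheme.Modules.pullback g).map (ι i)).app (g ⁻¹ᵁ ⊤) (e.inv.app (g ⁻¹ᵁ ⊤) (Frame.one (g ⁻¹ᵁ ⊤)))
    refine congrArg _ ?_
    rw [← unitIso_unit_one g]
    exact (congrArg (fun φ : (Scheme.Modules.pullback g).obj (Coh.structureModule S) ⟶ (Scheme.Modules.pullback g).obj (Coh.structureModule S) => φ.app (g ⁻¹ᵁ ⊤) (unitSec g _ (Frame.one ⊤))) e.hom_inv_id).symm
  simp only [hk]
  exact hb

theorem isFrame_map_iso {M N : X.Modules} (e : M ≅ N) {U : X.Opens} {s : Fin n → Γ(M, U)}
    (hs : Frame.IsFrame M s) : Frame.IsFrame N fun i => e.hom.app U (s i) := by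
  intro W h
  have key : Frame.comb N (fun i => e.hom.app U (s i)) W h = (fun x => e.hom.app W x) ∘ Frame.comb M s W h := by
    funext c
    simp only [Function.comp, Frame.comb, map_sum]
    refine Finset.sum_congr rfl fun i _ => ?_
    rw [Scheme.Modules.Hom.app_smul]
    exact congrArg (c i • ·) (ConcreteCategory.congr_hom (e.hom.mapPresheaf.naturality (homOfLE h).op) (s i)).symm
  rw [key]
  exact (ConcreteCategory.bijective_of_isIso (e.hom.app W)).comp (hs W h)

theorem isFrame_of_restrict {M : X.Modules} {U V : X.Opens} (hU : U.ι ''ᵁ ⊤ = V)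
    (t : Fin n → Γ(M.restrict U.ι, ⊤)) (ht : Frame.IsFrame (M.restrict U.ι) t) :
    Frame.IsFrame M fun i => M.presheaf.map (eqToHom hU.symm).op (show Γ(M, U.ι ''ᵁ ⊤) from t i) := by
  intro W h
  obtain ⟨W', rfl⟩ : ∃ W' : (U : Scheme.{u}).Opens, U.ι ''ᵁ W' = W := ⟨U.ι ⁻¹ᵁ W, by
    rw [Scheme.Hom.image_preimage_eq_opensRange_inf, Scheme.Opens.opensRange_ι, inf_eq_right]
    exact h.trans (hU.symm.le.trans U.ι_image_top.le)⟩
  have key : Frame.comb M (fun i => M.presheaf.map (eqToHom hU.symm).op (show Γ(M, U.ι ''ᵁ ⊤) from t i))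
      (U.ι ''ᵁ W') h = Frame.comb (M.restrict U.ι) t W' le_top := by
    funext c
    refine Finset.sum_congr rfl fun i _ => ?_
    refine Eq.trans ?_ (Frame.restrict_smul U W' (c i) _).symm
    refine congrArg (fun m : Γ(M, U.ι ''ᵁ W') => (show Γ(X, U.ι ''ᵁ W') from c i) • m) ?_
    show M.presheaf.map (homOfLE h).op (M.presheaf.map (eqToHom hU.symm).op _) =
      M.presheaf.map (U.ι.opensFunctor.map (homOfLE (le_top (a := W')))).op _
    rw [← ConcreteCategory.comp_apply, ← M.presheaf.map_comp]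
    rfl
  rw [key]
  exact ht W' le_top

/-- A locally free module has frames whose inverse images are frames. -/
theorem exists_frame_pull {M : S.Modules} {U : S.Opens}
    (e : M.restrict U.ι ≅ FlatMod.freeMod (U : Scheme.{u}) n) :
    ∃ s : Fin n → Γ(M, U), Frame.IsFrame M s ∧
      ∀ {X : Scheme.{u}} (f : X ⟶ S), Frame.IsFrame ((Scheme.Modules.pullback f).obj M) (U := f ⁻¹ᵁ U)
        fun i => unitSec f M (s i) := by
  let ι := fun i => Frame.incl (U : Scheme.{u}) n i ≫ e.inv
  let π := fun i => e.hom ≫ Frame.proj (U : Scheme.{u}) n i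
  have ho : ∀ i j, ι j ≫ π i = if j = i then 𝟙 _ else 0 := fun i j => by
    show (_ ≫ e.inv) ≫ e.hom ≫ _ = _
    rw [Category.assoc, e.inv_hom_id_assoc, Frame.incl_proj]
  have ht : ∑ i, π i ≫ ι i = 𝟙 _ := by
    show ∑ i, (e.hom ≫ _) ≫ (_ ≫ e.inv) = _
    refine Eq.trans (Finset.sum_congr rfl fun i _ => ?_)
      (show ∑ i, e.hom ≫ (Frame.proj (U : Scheme.{u}) n i ≫ Frame.incl _ n i) ≫ e.inv = 𝟙 _ by
        rw [← Preadditive.comp_sum, ← Preadditive.sum_comp, Frame.total, Category.id_comp, e.hom_inv_id])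
    simp only [Category.assoc]
  let t : Fin n → Γ(M.restrict U.ι, ⊤) := fun i => (ι i).app ⊤ (Frame.one ⊤)
  have hU : U.ι ''ᵁ ⊤ = U := U.ι_image_top
  refine ⟨fun i => M.presheaf.map (eqToHom hU.symm).op (show Γ(M, U.ι ''ᵁ ⊤) from t i),
    isFrame_of_restrict hU t (isFrame_of_biproduct ι π ho ht), fun {X} f => ?_⟩
  have h1 := isFrame_map_iso ((PullPush.pullRestrictIso f U).app M) (isFrame_unitSec_of_biproduct (f ∣_ U) ι π ho ht)
  have h2 := isFrame_of_restrict (M := (Scheme.Modules.pullback f).obj M) (U := f ⁻¹ᵁ U) (f ⁻¹ᵁ U).ι_image_top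
    _ h1
  have key : ∀ i, unitSec f M (M.presheaf.map (eqToHom hU.symm).op (show Γ(M, U.ι ''ᵁ ⊤) from t i)) =
      ((Scheme.Modules.pullback f).obj M).presheaf.map (eqToHom (f ⁻¹ᵁ U).ι_image_top.symm).op
        (show Γ((Scheme.Modules.pullback f).obj M, (f ⁻¹ᵁ U).ι ''ᵁ ⊤) from
          ((PullPush.pullRestrictIso f U).hom.app M).app ⊤ (unitSec (f ∣_ U) (M.restrict U.ι) (t i))) := by
    intro i
    let F := (Scheme.Modules.pullback f).obj M
    let z : Γ(F, f ⁻¹ᵁ (U.ι ''ᵁ ⊤)) := unitSec f M (show Γ(M, U.ι ''ᵁ ⊤) from t i)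
    have hrc := congrArg (fun φ : M.restrict U.ι ⟶ (Scheme.Modules.pushforward (f ∣_ U)).obj (((Scheme.Modules.pullback f).obj M).restrict (f ⁻¹ᵁ U).ι) => φ.app ⊤ (t i)) (PullPush.restrict_unit_comp f U M)
    refine Eq.trans ?_ (congrArg
      (fun y : Γ(F, (f ⁻¹ᵁ U).ι ''ᵁ ⊤) => F.presheaf.map (eqToHom (f ⁻¹ᵁ U).ι_image_top.symm).op y) hrc)
    refine (ConcreteCategory.congr_hom (((Scheme.Modules.pullbackPushforwardAdjunction f).unit.app
      M).mapPresheaf.naturality (eqToHom hU.symm).op) (show Γ(M, U.ι ''ᵁ ⊤) from t i)).trans ?_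
    show F.presheaf.map _ z = F.presheaf.map _ (((PullPush.pushRestrict f U).app F).app ⊤ z)
    simp only [PullPush.pushRestrict, PullPush.pushSquare, Scheme.Modules.Hom.comp_app]
    show F.presheaf.map _ z = F.presheaf.map _ (F.presheaf.map _ (F.presheaf.map _ (F.presheaf.map _ z)))
    rw [← ConcreteCategory.comp_apply, ← ConcreteCategory.comp_apply, ← ConcreteCategory.comp_apply,
      ← F.presheaf.map_comp, ← F.presheaf.map_comp, ← F.presheaf.map_comp]
    rfl
  simp only [key]
  exact h2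

end PinchPO7
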