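import Groth.Agent.PinchPO7.HomGlue
import Mathlib.LinearAlgebra.Matrix.NonsingularInverse
import Mathlib.RingTheory.OrzechProperty

/-!
Frames: spanning, locality, inverse images.
-/

universe u
set_option autoImplicit false
open CategoryTheory CategoryTheory.Limits AlgebraicGeometry TopologicalSpace Opposite

namespace PinchPO7
open Groth.Agent.H23 Groth.Agent.AModX

variable {X S : Scheme.{u}} {n : ℕ} {M : X.Modules} {U : X.Opens}

/-- Linear combinations as a linear map. -/
noncomputable def combₗ (M : X.Modules) (s : Fin n → Γ(M, U)) (W : X.Opens) (h : W ≤ U) :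
    (Fin n → Γ(X, W)) →ₗ[Γ(X, W)] Γ(M, W) where
  toFun := Frame.comb M s W h
  map_add' c d := by
    simp only [Frame.comb, Pi.add_apply, add_smul, Finset.sum_add_distrib]
  map_smul' r c := by
    simp only [Frame.comb, Pi.smul_apply, smul_eq_mul, mul_smul, Finset.smul_sum, RingHom.id_apply]

theorem comb_comb (s : Fin n → Γ(M, U)) {V W : X.Opens} (hV : V ≤ U) (hW : W ≤ V)
    (C : Fin n → Fin n → Γ(X, V)) (a : Fin n → Γ(X, W)) :
    Frame.comb M (fun i => Frame.comb M s V hV (C i)) W hW a =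
      Frame.comb M s W (hW.trans hV) (fun j => ∑ i, a i * resR hW (C i j)) := by
  show ∑ i, a i • res M hW (Frame.comb M s V hV (C i)) = combₗ M s W (hW.trans hV) _
  have h : (fun j => ∑ i, a i * resR hW (C i j)) = ∑ i, a i • (fun j => resR hW (C i j)) := by
    funext j
    simp
  rw [h, map_sum]
  refine Finset.sum_congr rfl fun i _ => ?_
  rw [map_smul, res_comb]
  rfl

/-- A spanning family of the right size is a frame. -/
theorem isFrame_of_span {s s' : Fin n → Γ(M, U)} (hs' : Frame.IsFrame M s')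
    (h : ∀ i, ∃ c, Frame.comb M s U le_rfl c = s' i) : Frame.IsFrame M s := by
  intro W hW
  choose C hC using h
  let e : (Fin n → Γ(X, W)) ≃ₗ[Γ(X, W)] Γ(M, W) := LinearEquiv.ofBijective (combₗ M s' W hW) (hs' W hW)
  have hsurj : Function.Surjective (combₗ M s W hW) := fun m => by
    obtain ⟨a, ha⟩ := (hs' W hW).2 m
    refine ⟨fun j => ∑ i, a i * resR hW (C i j), ?_⟩
    show Frame.comb M s W hW _ = m
    rw [← comb_comb s le_rfl hW C a]
    simp only [hC]
    exact ha
  let f : (Fin n → Γ(X, W)) →ₗ[Γ(X, W)] Fin n → Γ(X, W) := e.symm.toLinearMap ∘ₗ combₗ M s W hW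
  have hf : Function.Surjective f := e.symm.surjective.comp hsurj
  refine ⟨fun a b hab => OrzechProperty.injective_of_surjective_endomorphism f hf ?_, hsurj⟩
  exact congrArg e.symm hab

theorem isFrame_of_le_bot (s : Fin n → Γ(M, U)) (hU : U ≤ ⊥) : Frame.IsFrame M s := by
  intro W hW
  have hW0 : ∀ p, p ∈ W → False := fun p hp => hU (hW hp)
  have h2 : Subsingleton Γ(X, W) := by
    rw [show W = ⊥ from eq_bot_iff.mpr fun p hp => (hW0 p hp).elim]; infer_instance
  exact ⟨fun a b _ => funext fun i => Subsingleton.elim _ _,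
    fun m => ⟨0, eq_of_locally _ _ fun p hp => (hW0 p hp).elim⟩⟩

/-- Being a frame is local. -/
theorem isFrame_of_locally (s : Fin n → Γ(M, U))
    (h : ∀ p ∈ U, ∃ (V : X.Opens) (hV : V ≤ U), p ∈ V ∧ Frame.IsFrame M fun i => res M hV (s i)) :
    Frame.IsFrame M s := by
  intro W hW
  have hloc : ∀ p ∈ W, ∃ (V : X.Opens) (_ : p ∈ V) (hV : V ≤ W),
      ∀ V' (h' : V' ≤ V), Function.Bijective (Frame.comb M s V' ((h'.trans hV).trans hW)) := by
    intro p hp
    obtain ⟨V, hV, hpV, hF⟩ := h p (hW hp)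
    refine ⟨W ⊓ V, ⟨hp, hpV⟩, inf_le_left, fun V' h' => ?_⟩
    have h1 := hF V' (h'.trans inf_le_right)
    have e : Frame.comb M (fun i => res M hV (s i)) V' (h'.trans inf_le_right) =
        Frame.comb M s V' ((h'.trans inf_le_left).trans hW) := funext fun c => comb_res_base s hV _ c
    rw [e] at h1
    exact h1
  choose V hpV hVW hb using hloc
  constructor
  · intro a b hab
    funext i
    refine TopCat.Sheaf.eq_of_locally_eq' X.sheaf (fun p : W => V p.1 p.2) W (fun p => homOfLE (hVW p.1 p.2))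
      (fun p hp => Opens.mem_iSup.mpr ⟨⟨p, hp⟩, hpV p hp⟩) _ _ fun p => ?_
    have h1 : Frame.comb M s (V p.1 p.2) ((hVW p.1 p.2).trans hW) (fun i => resR (hVW p.1 p.2) (a i)) =
        Frame.comb M s (V p.1 p.2) ((hVW p.1 p.2).trans hW) (fun i => resR (hVW p.1 p.2) (b i)) := by
      rw [← res_comb s hW, ← res_comb s hW, hab]
    exact congrFun ((hb p.1 p.2 _ le_rfl).1 h1) i
  · intro m
    choose c hc using fun p : W => (hb p.1 p.2 _ le_rfl).2 (res M (hVW p.1 p.2) m)
    have hcompat : ∀ (p q : W) (i : Fin n),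
        resR inf_le_left (c p i) = resR (inf_le_right : V p.1 p.2 ⊓ V q.1 q.2 ≤ _) (c q i) := by
      intro p q i
      refine congrFun ((hb p.1 p.2 _ (inf_le_left : V p.1 p.2 ⊓ V q.1 q.2 ≤ _)).1
        (a₁ := fun i => resR inf_le_left (c p i)) (a₂ := fun i => resR inf_le_right (c q i)) ?_) i
      rw [← res_comb s ((hVW p.1 p.2).trans hW), hc, ← res_comb s ((hVW q.1 q.2).trans hW), hc, res_res, res_res]
    have hex : ∀ i, ∃ g : Γ(X, W), ∀ p : W, resR (hVW p.1 p.2) g = c p i := fun i =>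
      (TopCat.Sheaf.existsUnique_gluing' X.sheaf (fun p : W => V p.1 p.2) W (fun p => homOfLE (hVW p.1 p.2))
        (fun p hp => Opens.mem_iSup.mpr ⟨⟨p, hp⟩, hpV p hp⟩) (fun p => c p i) (fun p q => hcompat p q i)).exists
    choose g hg using hex
    refine ⟨g, eq_of_locally _ _ fun p hp => ⟨V p hp, hVW p hp, hpV p hp, ?_⟩⟩
    rw [res_comb, ← hc ⟨p, hp⟩]
    exact congrArg _ (funext fun i => hg i ⟨p, hp⟩)

/-- A frame pulls back to a frame. -/
theorem isFrame_unitSec {N : S.Modules} {U : S.Opens} {s : Fin n → Γ(N, U)} (hs : Frame.IsFrame N s) (f : X ⟶ S) :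
    Frame.IsFrame ((Scheme.Modules.pullback f).obj N) (U := f ⁻¹ᵁ U) fun i => unitSec f N (s i) := by
  obtain ⟨e⟩ := Frame.exists_iso_of_frame s hs
  obtain ⟨s', -, hf'⟩ := exists_frame_pull e
  refine isFrame_of_span (hf' f) fun i => ?_
  obtain ⟨c, hc⟩ := (hs U le_rfl).2 (s' i)
  refine ⟨fun j => f.app U (c j), ?_⟩
  rw [← hc, unitSec_comb]

/-- A family which is a frame where an expressing matrix is invertible. -/
theorem isFrame_of_det {s v : Fin n → Γ(M, U)} (hs : Frame.IsFrame M s) (C : Matrix (Fin n) (Fin n) Γ(X, U))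
    (hC : ∀ i, Frame.comb M s U le_rfl (C i) = v i) (hdet : IsUnit C.det) : Frame.IsFrame M v := by
  refine isFrame_of_span hs fun i => ⟨C⁻¹ i, ?_⟩
  have h := comb_comb s (V := U) (W := U) le_rfl le_rfl C (C⁻¹ i)
  simp only [hC] at h
  rw [h]
  have he : (fun j => ∑ k, C⁻¹ i k * resR (le_refl U) (C k j)) = (1 : Matrix (Fin n) (Fin n) Γ(X, U)) i := by
    funext j
    simp only [resR_self]
    rw [← Matrix.nonsing_inv_mul C hdet]
    rfl
  rw [he]
  show ∑ k, (1 : Matrix (Fin n) (Fin n) Γ(X, U)) i k • res M le_rfl (s k) = s i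
  rw [Finset.sum_eq_single i (fun k _ hk => by rw [Matrix.one_apply_ne (Ne.symm hk), zero_smul])
    (fun hi => absurd (Finset.mem_univ i) hi), Matrix.one_apply_eq, one_smul, res_self]

/-- Two frames differ by an invertible matrix. -/
theorem isUnit_det_of_frames {s v : Fin n → Γ(M, U)} (hs : Frame.IsFrame M s) (hv : Frame.IsFrame M v)
    (C : Matrix (Fin n) (Fin n) Γ(X, U)) (hC : ∀ i, Frame.comb M s U le_rfl (C i) = v i) : IsUnit C.det := by
  choose D hD using fun i => (hv U le_rfl).2 (s i)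
  have hDC : Matrix.of D * C = 1 := by
    ext i j
    have h := comb_comb s (V := U) (W := U) le_rfl le_rfl C (D i)
    simp only [hC] at h
    rw [hD i] at h
    have h1 : Frame.comb M s U le_rfl ((1 : Matrix (Fin n) (Fin n) Γ(X, U)) i) = s i := by
      show ∑ k, (1 : Matrix (Fin n) (Fin n) Γ(X, U)) i k • res M le_rfl (s k) = s i
      rw [Finset.sum_eq_single i (fun k _ hk => by rw [Matrix.one_apply_ne (Ne.symm hk), zero_smul])
        (fun hi => absurd (Finset.mem_univ i) hi), Matrix.one_apply_eq, one_smul, res_self]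
    have h2 := congrFun ((hs U le_rfl).1 (h.symm.trans h1.symm)) j
    simp only [resR_self] at h2
    exact h2
  exact Matrix.isUnit_det_of_left_inverse hDC

end PinchPO7
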