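import Groth.Agent.PinchPO7.Sheafed

universe u
set_option autoImplicit false
open AlgebraicGeometry CategoryTheory CategoryTheory.Limits TopologicalSpace Opposite

namespace PinchPO7
open RingPO

variable {X Y Z P : Scheme.{u}} {i : Z ⟶ X} {j : Z ⟶ Y} {a : X ⟶ P} {b : Y ⟶ P} [IsClosedImmersion i]

theorem open_of_preimages (h : IsPushout i j a b) (hY : ∀ y : Y, ∃ c : Chart i j, y ∈ c.V) (s : Set P)
    (ha : IsOpen (a ⁻¹' s)) (hb : IsOpen (b ⁻¹' s)) : IsOpen s := by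
  obtain ⟨φ, hφ, hcov, h1, h2, h3, h4⟩ := exists_fibreProd_chart h hY
  refine isOpen_iff_forall_mem_open.mpr fun x hx => ?_
  obtain ⟨c, Q, rfl⟩ := hcov x
  haveI := hφ c
  let U' : Set (PrimeSpectrum Γ(X, c.U)) := c.hU.fromSpec ⁻¹' (a ⁻¹' s)
  let V' : Set (PrimeSpectrum Γ(Y, c.V)) := c.hV.fromSpec ⁻¹' (b ⁻¹' s)
  have hA : ∀ q : PrimeSpectrum Γ(X, c.U), a (c.hU.fromSpec q) = φ c (PrimeSpectrum.comap c.α q) :=
    fun q => congr($(h1 c) q)
  have hB : ∀ q : PrimeSpectrum Γ(Y, c.V), b (c.hV.fromSpec q) = φ c (PrimeSpectrum.comap c.β q) :=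
    fun q => congr($(h2 c) q)
  obtain ⟨e, hQe, heU, heV⟩ := c.isFibreProd.exists_basic (U' := U') (V' := V')
    (ha.preimage c.hU.fromSpec.continuous) (hb.preimage c.hV.fromSpec.continuous)
    (fun q => by
      show a (c.hU.fromSpec (PrimeSpectrum.comap c.p q)) ∈ s ↔ b (c.hV.fromSpec (PrimeSpectrum.comap c.q q)) ∈ s
      rw [Chart.fromSpec_comap_p, Chart.fromSpec_comap_q]
      exact Iff.of_eq (congrArg (· ∈ s) (congr($(h.w) _))))
    (P := Q)
    (fun q hq => show a (c.hU.fromSpec q) ∈ s by rw [hA, hq]; exact hx)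
    (fun q hq => show b (c.hV.fromSpec q) ∈ s by rw [hB, hq]; exact hx)
  refine ⟨φ c '' (PrimeSpectrum.basicOpen e : Set (PrimeSpectrum c.sub)), ?_,
    (φ c).isOpenEmbedding.isOpenMap _ (PrimeSpectrum.basicOpen e).isOpen, ⟨Q, hQe, rfl⟩⟩
  rintro _ ⟨R, hR, rfl⟩
  rcases c.isFibreProd.exists_preimage R with ⟨q, rfl⟩ | ⟨q, rfl⟩
  · rw [← hB]; exact heV hR
  · rw [← hA]; exact heU hR

theorem fib_of_pushout (h : IsPushout i j a b) (hY : ∀ y : Y, ∃ c : Chart i j, y ∈ c.V) (x x' : X)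
    (he : a x = a x') : x = x' ∨ ∃ y : Y, a x = b y := by
  obtain ⟨φ, hφ, hcov, h1, h2, h3, h4⟩ := exists_fibreProd_chart h hY
  obtain ⟨c, hc⟩ := exists_chart_X hY x
  haveI := hφ c
  have hc' : x' ∈ c.U := by
    show x' ∈ (c.U : Set X)
    rw [← h3 c]
    show a x' ∈ Set.range (φ c)
    rw [← he]
    exact (h3 c).ge hc
  obtain ⟨q, rfl⟩ := c.hU.range_fromSpec.ge hc
  obtain ⟨q', rfl⟩ := c.hU.range_fromSpec.ge hc'
  have hA : ∀ q : PrimeSpectrum Γ(X, c.U), a (c.hU.fromSpec q) = φ c (PrimeSpectrum.comap c.α q) :=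
    fun q => congr($(h1 c) q)
  rw [hA, hA] at he
  rcases c.isFibreProd.fib_or ((φ c).isOpenEmbedding.injective he) with e | ⟨z, z', hz, hz', -⟩
  · exact Or.inl (congrArg _ e)
  · refine Or.inr ⟨j ((c.hU.preimage i).fromSpec z), ?_⟩
    rw [← hz, Chart.fromSpec_comap_p]
    exact congr($(h.w) _)

theorem cart_of_pushout (h : IsPushout i j a b) (hY : ∀ y : Y, ∃ c : Chart i j, y ∈ c.V) (x : X) (y : Y)
    (he : a x = b y) : ∃ z : Z, i z = x ∧ j z = y := by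
  have hp := isPullback_of_isPushout h hY
  obtain ⟨w, hw1, hw2⟩ := Scheme.Pullback.exists_preimage_pullback x y he
  refine ⟨hp.isoPullback.inv w, ?_, ?_⟩
  · rw [← Scheme.Hom.comp_apply, hp.isoPullback_inv_fst]; exact hw1
  · rw [← Scheme.Hom.comp_apply, hp.isoPullback_inv_snd]; exact hw2

theorem sec_ext_of_pushout (h : IsPushout i j a b) (hY : ∀ y : Y, ∃ c : Chart i j, y ∈ c.V) [IsAffineHom a]
    (W : P.Opens) (s t : Γ(P, W)) (ha : a.app W s = a.app W t) (hb : b.app W s = b.app W t) : s = t := by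
  haveI := isClosedImmersion_inr h hY
  have hcov : W ≤ iSup (fun U : {U : P.Opens // IsAffineOpen U ∧ U ≤ W} => U.1) := fun x hx => by
    obtain ⟨U, hU, hxU, hUW⟩ := exists_isAffineOpen_mem_and_subset (x := x) (U := W) hx
    exact Opens.mem_iSup.mpr ⟨⟨U, hU, hUW⟩, hxU⟩
  refine TopCat.Sheaf.eq_of_locally_eq' P.sheaf _ W (fun U => homOfLE U.2.2) hcov s t fun U => ?_
  refine (isFibreProd_of_affineOpen h hY U.2.1).ext _ _ ?_ ?_
  · show a.appLE U.1 _ le_rfl (P.presheaf.map (homOfLE U.2.2).op s) =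
      a.appLE U.1 _ le_rfl (P.presheaf.map (homOfLE U.2.2).op t)
    rw [← CommRingCat.comp_apply, ← CommRingCat.comp_apply, Scheme.Hom.map_appLE, Scheme.Hom.appLE,
      CommRingCat.comp_apply, CommRingCat.comp_apply, ha]
  · show b.appLE U.1 _ le_rfl (P.presheaf.map (homOfLE U.2.2).op s) =
      b.appLE U.1 _ le_rfl (P.presheaf.map (homOfLE U.2.2).op t)
    rw [← CommRingCat.comp_apply, ← CommRingCat.comp_apply, Scheme.Hom.map_appLE, Scheme.Hom.appLE,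
      CommRingCat.comp_apply, CommRingCat.comp_apply, hb]

theorem appLE_res {W W' : P.Opens} {V : Scheme.{u}} (f : V ⟶ P) (e : W' ≤ W) (s : Γ(P, W)) :
    f.appLE W' (f ⁻¹ᵁ W') le_rfl (P.presheaf.map (homOfLE e).op s) =
      V.presheaf.map (homOfLE (f.preimage_mono e)).op (f.app W s) := by
  rw [← CommRingCat.comp_apply, Scheme.Hom.map_appLE, Scheme.Hom.appLE, CommRingCat.comp_apply]

theorem res_appLE {V V' : Scheme.{u}} (f : V' ⟶ V) {A A' : V.Opens} (e : A' ≤ A) {B B' : V'.Opens} (eB : B' ≤ B)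
    (hB : B ≤ f ⁻¹ᵁ A) (hB' : B' ≤ f ⁻¹ᵁ A') (x : Γ(V, A)) :
    f.appLE A' B' hB' (V.presheaf.map (homOfLE e).op x) = V'.presheaf.map (homOfLE eB).op (f.appLE A B hB x) := by
  rw [← CommRingCat.comp_apply, ← CommRingCat.comp_apply, Scheme.Hom.map_appLE, Scheme.Hom.appLE_map]

theorem sec_glue_of_pushout (h : IsPushout i j a b) (hY : ∀ y : Y, ∃ c : Chart i j, y ∈ c.V) [IsAffineHom a]
    (W : P.Opens) (x : Γ(X, a ⁻¹ᵁ W)) (y : Γ(Y, b ⁻¹ᵁ W)) (hle : i ⁻¹ᵁ a ⁻¹ᵁ W ≤ j ⁻¹ᵁ b ⁻¹ᵁ W)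
    (he : i.appLE (a ⁻¹ᵁ W) (i ⁻¹ᵁ a ⁻¹ᵁ W) le_rfl x = j.appLE (b ⁻¹ᵁ W) (i ⁻¹ᵁ a ⁻¹ᵁ W) hle y) :
    ∃ s : Γ(P, W), a.app W s = x ∧ b.app W s = y := by
  haveI := isClosedImmersion_inr h hY
  let ι' := {U : P.Opens // IsAffineOpen U ∧ U ≤ W}
  have hcov : W ≤ iSup (fun U : ι' => U.1) := fun w hw => by
    obtain ⟨U, hU, hxU, hUW⟩ := exists_isAffineOpen_mem_and_subset (x := w) (U := W) hw
    exact Opens.mem_iSup.mpr ⟨⟨U, hU, hUW⟩, hxU⟩
  have hloc : ∀ U : ι', ∃ s : Γ(P, U.1),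
      a.appLE U.1 (a ⁻¹ᵁ U.1) le_rfl s = X.presheaf.map (homOfLE (a.preimage_mono U.2.2)).op x ∧
      b.appLE U.1 (b ⁻¹ᵁ U.1) le_rfl s = Y.presheaf.map (homOfLE (b.preimage_mono U.2.2)).op y := by
    intro U
    refine (isFibreProd_of_affineOpen h hY U.2.1).exists_of_eq _ _ ?_
    show i.appLE (a ⁻¹ᵁ U.1) (i ⁻¹ᵁ a ⁻¹ᵁ U.1) le_rfl (X.presheaf.map (homOfLE (a.preimage_mono U.2.2)).op x) =
      j.appLE (b ⁻¹ᵁ U.1) (i ⁻¹ᵁ a ⁻¹ᵁ U.1) (chartOver h U.2.1).eq.le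
        (Y.presheaf.map (homOfLE (b.preimage_mono U.2.2)).op y)
    rw [res_appLE i (a.preimage_mono U.2.2) (i.preimage_mono (a.preimage_mono U.2.2)) le_rfl,
      res_appLE j (b.preimage_mono U.2.2) (i.preimage_mono (a.preimage_mono U.2.2)) hle]
    exact congrArg _ he
  choose sf hsa hsb using hloc
  obtain ⟨s, hs, -⟩ := TopCat.Sheaf.existsUnique_gluing' P.sheaf (fun U : ι' => U.1) W (fun U => homOfLE U.2.2) hcov sf
    (fun U U' => by
      refine sec_ext_of_pushout h hY _ _ _ ?_ ?_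
      · show a.app (U.1 ⊓ U'.1) (P.presheaf.map (homOfLE inf_le_left).op (sf U)) =
          a.app (U.1 ⊓ U'.1) (P.presheaf.map (homOfLE inf_le_right).op (sf U'))
        rw [Scheme.Hom.app_eq_appLE, res_appLE a inf_le_left (a.preimage_mono inf_le_left) le_rfl,
          res_appLE a inf_le_right (a.preimage_mono inf_le_right) le_rfl, hsa, hsa, ← CommRingCat.comp_apply,
          ← CommRingCat.comp_apply, ← Functor.map_comp, ← Functor.map_comp]
        rfl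
      · show b.app (U.1 ⊓ U'.1) (P.presheaf.map (homOfLE inf_le_left).op (sf U)) =
          b.app (U.1 ⊓ U'.1) (P.presheaf.map (homOfLE inf_le_right).op (sf U'))
        rw [Scheme.Hom.app_eq_appLE, res_appLE b inf_le_left (b.preimage_mono inf_le_left) le_rfl,
          res_appLE b inf_le_right (b.preimage_mono inf_le_right) le_rfl, hsb, hsb, ← CommRingCat.comp_apply,
          ← CommRingCat.comp_apply, ← Functor.map_comp, ← Functor.map_comp]
        rfl)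
  refine ⟨s, ?_, ?_⟩
  · refine TopCat.Sheaf.eq_of_locally_eq' X.sheaf (fun U : ι' => a ⁻¹ᵁ U.1) (a ⁻¹ᵁ W)
      (fun U => homOfLE (a.preimage_mono U.2.2)) ?_ _ _ fun U => ?_
    · intro v hv
      obtain ⟨U, hU⟩ := Opens.mem_iSup.mp (hcov (show a v ∈ W from hv))
      exact Opens.mem_iSup.mpr ⟨U, hU⟩
    · show X.presheaf.map _ (a.app W s) = _
      rw [← appLE_res a U.2.2 s]
      exact (congrArg (a.appLE U.1 (a ⁻¹ᵁ U.1) le_rfl) (hs U)).trans (hsa U)
  · refine TopCat.Sheaf.eq_of_locally_eq' Y.sheaf (fun U : ι' => b ⁻¹ᵁ U.1) (b ⁻¹ᵁ W)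
      (fun U => homOfLE (b.preimage_mono U.2.2)) ?_ _ _ fun U => ?_
    · intro v hv
      obtain ⟨U, hU⟩ := Opens.mem_iSup.mp (hcov (show b v ∈ W from hv))
      exact Opens.mem_iSup.mpr ⟨U, hU⟩
    · show Y.presheaf.map _ (b.app W s) = _
      rw [← appLE_res b U.2.2 s]
      exact (congrArg (b.appLE U.1 (b ⁻¹ᵁ U.1) le_rfl) (hs U)).trans (hsb U)

/-- A pushout of schemes along a closed immersion with charts is a pushout of ringed spaces. -/
theorem isGluedSquare_of_pushout (h : IsPushout i j a b) (hY : ∀ y : Y, ∃ c : Chart i j, y ∈ c.V) [IsAffineHom a] :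
    IsGluedSquare i j a b where
  w := h.w
  cover := exists_preimage_point h hY
  fib := fib_of_pushout h hY
  inj := (haveI := isClosedImmersion_inr h hY; b.isClosedEmbedding.injective)
  cart := cart_of_pushout h hY
  open_iff := open_of_preimages h hY
  sec_ext := sec_ext_of_pushout h hY
  sec_glue := sec_glue_of_pushout h hY

end PinchPO7
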