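import Mathlib

universe u
set_option autoImplicit false
open AlgebraicGeometry CategoryTheory

namespace PinchPO7

set_option backward.isDefEq.respectTransparency.types false in
theorem stalkMap_injective {X Y : Scheme.{u}} (f : X ⟶ Y) [Flat f] (x : X) : Function.Injective (f.stalkMap x) := by
  algebraize [(f.stalkMap x).hom]
  have : Module.FaithfullyFlat (Y.presheaf.stalk (f x)) (X.presheaf.stalk x) :=
    @Module.FaithfullyFlat.of_flat_of_isLocalHom _ _ _ _ _ _ _
      (Flat.stalkMap f x) (f.toLRSHom.prop x)
  exact ‹RingHom.FaithfullyFlat _›.injective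

/-- Sections pull back injectively along a flat surjection. -/
theorem app_injective {X Y : Scheme.{u}} (f : X ⟶ Y) [Flat f] [Surjective f] (U : Y.Opens) :
    Function.Injective (f.app U) := by
  intro s t hst
  refine TopCat.Presheaf.section_ext Y.sheaf U s t fun y hy => ?_
  obtain ⟨x, rfl⟩ := f.surjective y
  refine stalkMap_injective f x ?_
  show f.stalkMap x (Y.presheaf.germ U (f x) hy s) = f.stalkMap x (Y.presheaf.germ U (f x) hy t)
  erw [Scheme.Hom.germ_stalkMap_apply, Scheme.Hom.germ_stalkMap_apply, hst]

end PinchPO7
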