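import Groth.Agent.PinchPO7.ShSections
import Groth.Agent.PinchPO7.FramePull
import Groth.Agent.AModX.Res

/-!
Homomorphisms of locally free modules glue on a ringed-space pushout.
-/

universe u
set_option autoImplicit false
set_option backward.isDefEq.respectTransparency.types false
open CategoryTheory CategoryTheory.Limits AlgebraicGeometry TopologicalSpace Opposite

namespace PinchPO7
open Groth.Agent.H23 Groth.Agent.AModX

variable {S X Y : Scheme.{u}} {n : ℕ}

theorem unitSec_res (f : X ⟶ S) (M : S.Modules) {V W : S.Opens} (h : W ≤ V) (x : Γ(M, V)) :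
    unitSec f M (res M h x) = res ((Scheme.Modules.pullback f).obj M) (f.preimage_mono h) (unitSec f M x) :=
  ConcreteCategory.congr_hom (((Scheme.Modules.pullbackPushforwardAdjunction f).unit.app
    M).mapPresheaf.naturality (homOfLE h).op) x

theorem unitSec_natural (f : X ⟶ S) {M N : S.Modules} (φ : M ⟶ N) {W : S.Opens} (x : Γ(M, W)) :
    ((Scheme.Modules.pullback f).map φ).app (f ⁻¹ᵁ W) (unitSec f M x) = unitSec f N (φ.app W x) :=
  (congrArg (fun t => Scheme.Modules.Hom.app t W x)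
    ((Scheme.Modules.pullbackPushforwardAdjunction f).unit.naturality φ)).symm

theorem unitSec_add (f : X ⟶ S) (M : S.Modules) {W : S.Opens} (x y : Γ(M, W)) :
    unitSec f M (x + y) = unitSec f M x + unitSec f M y :=
  map_add (((Scheme.Modules.pullbackPushforwardAdjunction f).unit.app M).app W).hom x y

theorem unitSec_smul (f : X ⟶ S) (M : S.Modules) {W : S.Opens} (c : Γ(S, W)) (x : Γ(M, W)) :
    unitSec f M (c • x) = f.app W c • unitSec f M x :=
  Scheme.Modules.Hom.app_smul ((Scheme.Modules.pullbackPushforwardAdjunction f).unit.app M) c x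

theorem unitSec_comb (f : X ⟶ S) (M : S.Modules) {U W : S.Opens} (s : Fin n → Γ(M, U)) (h : W ≤ U)
    (c : Fin n → Γ(S, W)) :
    unitSec f M (Frame.comb M s W h c) =
      Frame.comb ((Scheme.Modules.pullback f).obj M) (fun i => unitSec f M (s i)) (f ⁻¹ᵁ W) (f.preimage_mono h)
        (fun i => f.app W (c i)) := by
  unfold unitSec Frame.comb
  rw [map_sum]
  refine Finset.sum_congr rfl fun i _ => ?_
  rw [Scheme.Modules.Hom.app_smul]
  exact congrArg (f.app W (c i) • ·) (unitSec_res f M h (s i))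

theorem app_comb {M N : X.Modules} (φ : M ⟶ N) {U W : X.Opens} (s : Fin n → Γ(M, U)) (h : W ≤ U)
    (c : Fin n → Γ(X, W)) :
    φ.app W (Frame.comb M s W h c) = Frame.comb N (fun i => φ.app U (s i)) W h c := by
  unfold Frame.comb
  rw [map_sum]
  refine Finset.sum_congr rfl fun i _ => ?_
  rw [Scheme.Modules.Hom.app_smul]
  exact congrArg (c i • ·) (app_res φ h (s i))

theorem res_comb {M : X.Modules} {U W W' : X.Opens} (s : Fin n → Γ(M, U)) (h : W ≤ U) (h' : W' ≤ W)
    (c : Fin n → Γ(X, W)) :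
    res M h' (Frame.comb M s W h c) = Frame.comb M s W' (h'.trans h) (fun i => resR h' (c i)) := by
  unfold Frame.comb
  rw [map_sum]
  refine Finset.sum_congr rfl fun i _ => ?_
  rw [res_smul]
  exact congrArg (resR h' (c i) • ·) (res_res (M := M) h h' (s i))

theorem comb_res_base {M : X.Modules} {U U' W : X.Opens} (s : Fin n → Γ(M, U)) (hU : U' ≤ U) (h : W ≤ U')
    (c : Fin n → Γ(X, W)) :
    Frame.comb M (fun i => res M hU (s i)) W h c = Frame.comb M s W (h.trans hU) c :=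
  Finset.sum_congr rfl fun i _ => congrArg (c i • ·) (res_res (M := M) hU h (s i))

theorem comp_unitSec {Z : Scheme.{u}} (f : Z ⟶ X) (g : X ⟶ S) (M : S.Modules) {W : S.Opens} (x : Γ(M, W)) :
    ((Scheme.Modules.pullbackComp f g).hom.app M).app (f ⁻¹ᵁ (g ⁻¹ᵁ W)) (unitSec f _ (unitSec g M x)) =
      unitSec (f ≫ g) M x := by
  let a₁ := (Scheme.Modules.pullbackPushforwardAdjunction g).comp (Scheme.Modules.pullbackPushforwardAdjunction f)
  let a₂ := Scheme.Modules.pullbackPushforwardAdjunction (f ≫ g)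
  have h := unit_conjugateEquiv a₁ a₂ (Scheme.Modules.pullbackComp f g).inv M
  rw [Scheme.Modules.conjugateEquiv_pullbackComp_inv] at h
  have h' := congrArg (fun t => t ≫ (Scheme.Modules.pushforward (f ≫ g)).map
    ((Scheme.Modules.pullbackComp f g).hom.app M)) h
  simp only [Category.assoc, ← Functor.map_comp, Iso.inv_hom_id_app, CategoryTheory.Functor.map_id,
    Category.comp_id] at h'
  exact congrArg (fun t : M ⟶ (Scheme.Modules.pushforward (f ≫ g)).obj _ => t.app W x) h'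

theorem comp_inv_unitSec {Z : Scheme.{u}} (f : Z ⟶ X) (g : X ⟶ S) (M : S.Modules) {W : S.Opens} (x : Γ(M, W)) :
    ((Scheme.Modules.pullbackComp f g).inv.app M).app (f ⁻¹ᵁ (g ⁻¹ᵁ W)) (unitSec (f ≫ g) M x) =
      unitSec f _ (unitSec g M x) := by
  rw [← comp_unitSec f g M x]
  exact congrArg (fun t => Scheme.Modules.Hom.app t (f ⁻¹ᵁ (g ⁻¹ᵁ W)) (unitSec f _ (unitSec g M x)))
    ((Scheme.Modules.pullbackComp f g).hom_inv_id_app M)

theorem congr_unitSec {f g : X ⟶ S} (e : f = g) (M : S.Modules) {W : S.Opens} (x : Γ(M, W)) :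
    ((Scheme.Modules.pullbackCongr e).hom.app M).app (f ⁻¹ᵁ W) (unitSec f M x) =
      res ((Scheme.Modules.pullback g).obj M) (show f ⁻¹ᵁ W ≤ g ⁻¹ᵁ W by rw [e]) (unitSec g M x) := by
  subst e
  exact (res_self _).symm

variable {Z T : Scheme.{u}} {fX : Z ⟶ X} {fY : Z ⟶ Y} {gX : X ⟶ T} {gY : Y ⟶ T}

/-- The hypothesis on sections of a ringed-space pushout. -/
def SecGlue (fX : Z ⟶ X) (fY : Z ⟶ Y) (gX : X ⟶ T) (gY : Y ⟶ T) : Prop :=
  ∀ W : T.Opens, (∀ s t : Γ(T, W), gX.app W s = gX.app W t → gY.app W s = gY.app W t → s = t) ∧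
    ∀ p : pairs fX fY gX gY W, ∃ s : Γ(T, W), gX.app W s = p.1.1 ∧ gY.app W s = p.1.2

variable {M N : T.Modules}

theorem mod_sec_ext (H : SecGlue fX fY gX gY) (hN : FlatMod.IsFinLocFree N) {W : T.Opens} (v v' : Γ(N, W))
    (hx : unitSec gX N v = unitSec gX N v') (hy : unitSec gY N v = unitSec gY N v') : v = v' := by
  refine eq_of_locally _ _ fun p hp => ?_
  obtain ⟨U, n, hpU, ⟨e⟩⟩ := hN p
  obtain ⟨s, hs, hpull⟩ := exists_frame_pull e
  refine ⟨W ⊓ U, inf_le_left, ⟨hp, hpU⟩, ?_⟩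
  obtain ⟨c, hc⟩ := (hs (W ⊓ U) inf_le_right).2 (res N inf_le_left v)
  obtain ⟨c', hc'⟩ := (hs (W ⊓ U) inf_le_right).2 (res N inf_le_left v')
  have key : ∀ {X' : Scheme.{u}} (g : X' ⟶ T), unitSec g N v = unitSec g N v' →
      (fun i => g.app (W ⊓ U) (c i)) = fun i => g.app (W ⊓ U) (c' i) := by
    intro X' g hg
    refine (hpull g (g ⁻¹ᵁ (W ⊓ U)) (g.preimage_mono inf_le_right)).1 ?_
    rw [← unitSec_comb g N s inf_le_right c, ← unitSec_comb g N s inf_le_right c', hc, hc', unitSec_res, unitSec_res, hg]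
  have hcc : c = c' := funext fun i => (H _).1 _ _ (congrFun (key gX hx) i) (congrFun (key gY hy) i)
  rw [← hc, ← hc', hcc]

/-- The gluing isomorphism on the double pullback. -/
noncomputable abbrev swapIso (hw : fX ≫ gX = fY ≫ gY) (N : T.Modules) :
    (Scheme.Modules.pullback fX).obj ((Scheme.Modules.pullback gX).obj N) ≅
      (Scheme.Modules.pullback fY).obj ((Scheme.Modules.pullback gY).obj N) :=
  (Scheme.Modules.pullbackComp fX gX).app N ≪≫ (Scheme.Modules.pullbackCongr hw).app N ≪≫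
    ((Scheme.Modules.pullbackComp fY gY).app N).symm

theorem swap_unitSec (hw : fX ≫ gX = fY ≫ gY) {W : T.Opens} (x : Γ(M, W)) :
    (swapIso hw M).hom.app (fX ⁻¹ᵁ (gX ⁻¹ᵁ W)) (unitSec fX _ (unitSec gX M x)) =
      res _ (show fX ⁻¹ᵁ (gX ⁻¹ᵁ W) ≤ fY ⁻¹ᵁ (gY ⁻¹ᵁ W) by
        rw [← Scheme.Hom.comp_preimage, ← Scheme.Hom.comp_preimage, hw]) (unitSec fY _ (unitSec gY M x)) := by
  show ((Scheme.Modules.pullbackComp fY gY).inv.app M).app _
    (((Scheme.Modules.pullbackCongr hw).hom.app M).app _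
      (((Scheme.Modules.pullbackComp fX gX).hom.app M).app _ (unitSec fX _ (unitSec gX M x)))) = _
  rw [comp_unitSec]
  refine (congrArg (((Scheme.Modules.pullbackComp fY gY).inv.app M).app (fX ⁻¹ᵁ (gX ⁻¹ᵁ W)))
    (congr_unitSec hw M x)).trans ?_
  refine (app_res _ _ _).trans ?_
  exact congrArg _ (comp_inv_unitSec fY gY M x)

theorem mod_sec_glue (H : SecGlue fX fY gX gY) (hw : fX ≫ gX = fY ≫ gY) (hN : FlatMod.IsFinLocFree N)
    (a : (Scheme.Modules.pullback gX).obj M ⟶ (Scheme.Modules.pullback gX).obj N)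
    (b : (Scheme.Modules.pullback gY).obj M ⟶ (Scheme.Modules.pullback gY).obj N)
    (hab : (Scheme.Modules.pullback fX).map a ≫ (swapIso hw N).hom =
      (swapIso hw M).hom ≫ (Scheme.Modules.pullback fY).map b)
    {W : T.Opens} (m : Γ(M, W)) :
    ∃ v : Γ(N, W), unitSec gX N v = a.app (gX ⁻¹ᵁ W) (unitSec gX M m) ∧
      unitSec gY N v = b.app (gY ⁻¹ᵁ W) (unitSec gY M m) := by
  let α : ∀ {V : T.Opens}, Γ(M, V) → Γ((Scheme.Modules.pullback gX).obj N, gX ⁻¹ᵁ V) :=
    fun {V} m => a.app (gX ⁻¹ᵁ V) (unitSec gX M m)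
  let β : ∀ {V : T.Opens}, Γ(M, V) → Γ((Scheme.Modules.pullback gY).obj N, gY ⁻¹ᵁ V) :=
    fun {V} m => b.app (gY ⁻¹ᵁ V) (unitSec gY M m)
  let ι := {V : T.Opens // ∃ (h : V ≤ W) (v : Γ(N, V)),
    unitSec gX N v = α (res M h m) ∧ unitSec gY N v = β (res M h m)}
  have hloc : ∀ p ∈ W, ∃ V : ι, p ∈ V.1 := by
    intro p hp
    obtain ⟨U, n, hpU, ⟨e⟩⟩ := hN p
    obtain ⟨s, hs, hpull⟩ := exists_frame_pull e
    refine ⟨⟨W ⊓ U, inf_le_left, ?_⟩, hp, hpU⟩
    generalize hm' : res M (inf_le_left : W ⊓ U ≤ W) m = m'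
    obtain ⟨x, hx⟩ := (hpull gX (gX ⁻¹ᵁ (W ⊓ U)) (gX.preimage_mono inf_le_right)).2 (α m')
    obtain ⟨y, hy⟩ := (hpull gY (gY ⁻¹ᵁ (W ⊓ U)) (gY.preimage_mono inf_le_right)).2 (β m')
    let O₁ := fX ⁻¹ᵁ (gX ⁻¹ᵁ (W ⊓ U))
    have hO : O₁ ≤ fY ⁻¹ᵁ (gY ⁻¹ᵁ (W ⊓ U)) := by
      show fX ⁻¹ᵁ _ ≤ _
      rw [← Scheme.Hom.comp_preimage, ← Scheme.Hom.comp_preimage, hw]
    have h1 := congrArg (fun φ : _ ⟶ (Scheme.Modules.pullback fY).obj ((Scheme.Modules.pullback gY).obj N) =>
      φ.app O₁ (unitSec fX _ (unitSec gX M m'))) hab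
    change (swapIso hw N).hom.app O₁ (((Scheme.Modules.pullback fX).map a).app O₁ (unitSec fX _ (unitSec gX M m'))) =
      ((Scheme.Modules.pullback fY).map b).app O₁ ((swapIso hw M).hom.app O₁ (unitSec fX _ (unitSec gX M m'))) at h1
    rw [swap_unitSec hw m'] at h1
    have h2 : ((Scheme.Modules.pullback fY).map b).app O₁
        (res _ hO (unitSec fY _ (unitSec gY M m'))) = res _ hO (unitSec fY _ (β m')) :=
      (app_res _ _ _).trans (congrArg _ (unitSec_natural fY b _))
    have h3 : ((Scheme.Modules.pullback fX).map a).app O₁ (unitSec fX _ (unitSec gX M m')) = unitSec fX _ (α m') :=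
      unitSec_natural fX a _
    rw [h2, h3] at h1
    rw [← hx, ← hy, unitSec_comb, unitSec_comb, app_comb, res_comb] at h1
    simp only [swap_unitSec] at h1
    rw [comb_res_base] at h1
    let Φ : (Scheme.Modules.pullback fY).obj ((Scheme.Modules.pullback gY).obj N) ⟶
        (Scheme.Modules.pullback (fY ≫ gY)).obj N := (Scheme.Modules.pullbackComp fY gY).hom.app N
    have h4 := congrArg (Φ.app O₁) h1
    rw [app_comb, app_comb] at h4
    have hΦ : ∀ i, Φ.app (fY ⁻¹ᵁ (gY ⁻¹ᵁ U)) (unitSec fY _ (unitSec gY N (s i))) = unitSec (fY ≫ gY) N (s i) :=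
      fun i => comp_unitSec fY gY N (s i)
    simp only [hΦ] at h4
    have hcoef := (hpull (fY ≫ gY) O₁ (hO.trans (fY.preimage_mono (gY.preimage_mono inf_le_right)))).1 h4
    have hpair : ∀ i, (x i, y i) ∈ pairs fX fY gX gY (W ⊓ U) := fun i => by
      have h5 := congrArg (resR (inf_le_left : zOpen fX fY gX gY (W ⊓ U) ≤ O₁)) (congrFun hcoef i)
      rw [resR_resR] at h5
      show fX.appLE _ _ inf_le_left (x i) = fY.appLE _ _ inf_le_right (y i)
      exact h5
    choose c hcx hcy using fun i => (H (W ⊓ U)).2 ⟨(x i, y i), hpair i⟩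
    refine ⟨Frame.comb N s (W ⊓ U) inf_le_right c, ?_, ?_⟩
    · rw [unitSec_comb, ← hx]
      exact congrArg _ (funext hcx)
    · rw [unitSec_comb, ← hy]
      exact congrArg _ (funext hcy)
  choose hV v hvx hvy using fun V : ι => V.2
  obtain ⟨t, ht, -⟩ := existsUnique_glue (M := N) (fun V : ι => V.1) hV hloc v (fun V V' => by
    refine mod_sec_ext H hN _ _ ?_ ?_
    · rw [unitSec_res, unitSec_res, hvx, hvx]
      simp only [α, unitSec_res, app_res, res_res]
    · rw [unitSec_res, unitSec_res, hvy, hvy]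
      simp only [β, unitSec_res, app_res, res_res])
  refine ⟨t, eq_of_locally _ _ fun p hp => ?_, eq_of_locally _ _ fun p hp => ?_⟩
  · obtain ⟨V, hpV⟩ := hloc _ hp
    refine ⟨gX ⁻¹ᵁ V.1, gX.preimage_mono (hV V), hpV, ?_⟩
    rw [← unitSec_res gX N (hV V), ht, hvx]
    simp only [α, unitSec_res, app_res]
  · obtain ⟨V, hpV⟩ := hloc _ hp
    refine ⟨gY ⁻¹ᵁ V.1, gY.preimage_mono (hV V), hpV, ?_⟩
    rw [← unitSec_res gY N (hV V), ht, hvy]
    simp only [β, unitSec_res, app_res]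

/-- Homomorphisms of locally free modules glue. -/
theorem hom_glue (H : SecGlue fX fY gX gY) (hw : fX ≫ gX = fY ≫ gY) (hN : FlatMod.IsFinLocFree N)
    (a : (Scheme.Modules.pullback gX).obj M ⟶ (Scheme.Modules.pullback gX).obj N)
    (b : (Scheme.Modules.pullback gY).obj M ⟶ (Scheme.Modules.pullback gY).obj N)
    (hab : (Scheme.Modules.pullback fX).map a ≫ (swapIso hw N).hom =
      (swapIso hw M).hom ≫ (Scheme.Modules.pullback fY).map b) :
    ∃ φ : M ⟶ N, (Scheme.Modules.pullback gX).map φ = a ∧ (Scheme.Modules.pullback gY).map φ = b := by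
  choose t htx hty using fun (W : T.Opens) (m : Γ(M, W)) => mod_sec_glue H hw hN a b hab m
  have hadd : ∀ (W : T.Opens) (x y : Γ(M, W)), t W (x + y) = t W x + t W y := fun W x y => by
    refine mod_sec_ext H hN _ _ ?_ ?_
    · rw [htx, unitSec_add, unitSec_add, map_add, htx, htx]
    · rw [hty, unitSec_add, unitSec_add, map_add, hty, hty]
  have hsmul : ∀ (W : T.Opens) (c : Γ(T, W)) (x : Γ(M, W)), t W (c • x) = c • t W x := fun W c x => by
    refine mod_sec_ext H hN _ _ ?_ ?_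
    · rw [htx, unitSec_smul, unitSec_smul, Scheme.Modules.Hom.app_smul, htx]
    · rw [hty, unitSec_smul, unitSec_smul, Scheme.Modules.Hom.app_smul, hty]
  have hres : ∀ (V W : T.Opens) (h : W ≤ V) (x : Γ(M, V)), t W (res M h x) = res N h (t V x) := fun V W h x => by
    refine mod_sec_ext H hN _ _ ?_ ?_
    · rw [htx, unitSec_res, unitSec_res, htx, app_res]
    · rw [hty, unitSec_res, unitSec_res, hty, app_res]
  let φ : M ⟶ N :=
    { val := PresheafOfModules.homMk
        { app := fun V => AddCommGrpCat.ofHom (AddMonoidHom.mk' (fun x : Γ(M, unop V) => t (unop V) x) (hadd (unop V)))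
          naturality := fun V W i => by
            ext x
            exact hres _ _ i.unop.le x }
        fun V c x => hsmul (unop V) c x }
  refine ⟨φ, ((Scheme.Modules.pullbackPushforwardAdjunction gX).homEquiv _ _).injective ?_,
    ((Scheme.Modules.pullbackPushforwardAdjunction gY).homEquiv _ _).injective ?_⟩
  · rw [Adjunction.homEquiv_unit, Adjunction.homEquiv_unit]
    refine Scheme.Modules.hom_ext _ _ fun W => ?_
    ext x
    exact (unitSec_natural gX φ x).trans (htx W x)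
  · rw [Adjunction.homEquiv_unit, Adjunction.homEquiv_unit]
    refine Scheme.Modules.hom_ext _ _ fun W => ?_
    ext x
    exact (unitSec_natural gY φ x).trans (hty W x)

/-- Homomorphisms agreeing on both pieces are equal. -/
theorem hom_ext_glue (H : SecGlue fX fY gX gY) (hN : FlatMod.IsFinLocFree N) {φ ψ : M ⟶ N}
    (hx : (Scheme.Modules.pullback gX).map φ = (Scheme.Modules.pullback gX).map ψ)
    (hy : (Scheme.Modules.pullback gY).map φ = (Scheme.Modules.pullback gY).map ψ) : φ = ψ := by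
  refine Scheme.Modules.hom_ext _ _ fun W => ?_
  ext x
  refine mod_sec_ext H hN _ _ ?_ ?_
  · rw [← unitSec_natural, hx, unitSec_natural]
  · rw [← unitSec_natural, hy, unitSec_natural]

end PinchPO7
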