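import Groth.Agent.PinchPO7.FrameLemmas
import Groth.Agent.PinchPO7.ChartGlued
import Groth.Agent.QCoh.ClosedPush
import Groth.Agent.QCoh.LocFree

/-!
Gluing locally free modules along a pinching square.
-/

universe u
set_option autoImplicit false
set_option backward.isDefEq.respectTransparency.types false
open CategoryTheory CategoryTheory.Limits AlgebraicGeometry TopologicalSpace Opposite

namespace PinchPO7
open Groth.Agent Groth.Agent.H23 Groth.Agent.AModX

variable {X Z Z' X' : Scheme.{u}} (ι : Z ⟶ X) (q : Z ⟶ Z') (π : X ⟶ X') (ι' : Z' ⟶ X') {n : ℕ}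
variable (LX : X.Modules) (LZ' : Z'.Modules)

theorem square_preimage (hw : ι ≫ π = q ≫ ι') (W : X'.Opens) :
    q ⁻¹ᵁ (ι' ⁻¹ᵁ W) = ι ⁻¹ᵁ (π ⁻¹ᵁ W) := by
  rw [← Scheme.Hom.comp_preimage, ← Scheme.Hom.comp_preimage, hw]

variable {ι q π ι' LX LZ'}
variable (σ : (Scheme.Modules.pullback ι).obj LX ≅ (Scheme.Modules.pullback q).obj LZ')

/-- Restriction of sections of `LX` to the middle. -/
noncomputable def glueX (hw : ι ≫ π = q ≫ ι') (W : X'.Opens) (x : Γ(LX, π ⁻¹ᵁ W)) :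
    Γ((Scheme.Modules.pullback q).obj LZ', q ⁻¹ᵁ (ι' ⁻¹ᵁ W)) :=
  res _ (square_preimage ι q π ι' hw W).le (σ.hom.app (ι ⁻¹ᵁ (π ⁻¹ᵁ W)) (unitSec ι LX x))

/-- The first leg. -/
noncomputable def legX (hw : ι ≫ π = q ≫ ι') :
    (Scheme.Modules.pushforward π).obj LX ⟶
      (Scheme.Modules.pushforward (q ≫ ι')).obj ((Scheme.Modules.pullback q).obj LZ') :=
  (Scheme.Modules.pushforward π).map ((Scheme.Modules.pullbackPushforwardAdjunction ι).unit.app LX ≫
      (Scheme.Modules.pushforward ι).map σ.hom) ≫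
    (Scheme.Modules.pushforwardComp ι π).hom.app _ ≫ (Scheme.Modules.pushforwardCongr hw).hom.app _

/-- The second leg. -/
noncomputable def legZ (LZ' : Z'.Modules) :
    (Scheme.Modules.pushforward ι').obj LZ' ⟶
      (Scheme.Modules.pushforward (q ≫ ι')).obj ((Scheme.Modules.pullback q).obj LZ') :=
  (Scheme.Modules.pushforward ι').map ((Scheme.Modules.pullbackPushforwardAdjunction q).unit.app LZ') ≫
    (Scheme.Modules.pushforwardComp q ι').hom.app _

theorem legX_app (hw : ι ≫ π = q ≫ ι') (W : X'.Opens) (x : Γ(LX, π ⁻¹ᵁ W)) :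
    (legX σ hw).app W x = glueX σ hw W x := rfl

theorem legZ_app (W : X'.Opens) (y : Γ(LZ', ι' ⁻¹ᵁ W)) :
    (legZ (q := q) (ι' := ι') LZ').app W y = unitSec q LZ' y := rfl

theorem glueX_res (hw : ι ≫ π = q ≫ ι') {W W' : X'.Opens} (h : W' ≤ W) (x : Γ(LX, π ⁻¹ᵁ W)) :
    glueX σ hw W' (res LX (π.preimage_mono h) x) =
      res _ (q.preimage_mono (ι'.preimage_mono h)) (glueX σ hw W x) :=
  app_res (legX σ hw) h x

theorem glueX_comb (hw : ι ≫ π = q ≫ ι') {W V : X'.Opens} (h : V ≤ W) (s : Fin n → Γ(LX, π ⁻¹ᵁ W))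
    (a : Fin n → Γ(X, π ⁻¹ᵁ V)) :
    glueX σ hw V (Frame.comb LX s (π ⁻¹ᵁ V) (π.preimage_mono h) a) =
      Frame.comb _ (fun i => glueX σ hw W (s i)) (q ⁻¹ᵁ (ι' ⁻¹ᵁ V)) (q.preimage_mono (ι'.preimage_mono h))
        (fun i => resR (square_preimage ι q π ι' hw V).le (ι.app (π ⁻¹ᵁ V) (a i))) := by
  unfold glueX
  rw [unitSec_comb, app_comb, res_comb, comb_res_base]

/-- `v` is a frame near `x` when it is one after restriction to a closed subscheme through `x`. -/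
theorem exists_frame_nhd [IsClosedImmersion ι] {O : X.Opens} (v : Fin n → Γ(LX, O)) {V : X.Opens} (hV : V ≤ O)
    {s : Fin n → Γ(LX, V)} (hs : Frame.IsFrame LX s)
    (hv : Frame.IsFrame ((Scheme.Modules.pullback ι).obj LX) fun i => unitSec ι LX (res LX hV (v i)))
    (z : Z) (hz : ι z ∈ V) :
    ∃ (V' : X.Opens) (h : V' ≤ O), ι z ∈ V' ∧ Frame.IsFrame LX fun i => res LX h (v i) := by
  classical
  choose C hC using fun i => (hs V le_rfl).2 (res LX hV (v i))
  let Cm : Matrix (Fin n) (Fin n) Γ(X, V) := Matrix.of C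
  have h1 : IsUnit (Cm.map (ι.app V).hom).det := by
    refine isUnit_det_of_frames (isFrame_unitSec hs ι) hv _ fun i => ?_
    rw [← hC i, unitSec_comb]
    rfl
  rw [← RingHom.mapMatrix_apply, ← RingHom.map_det] at h1
  have h2 : z ∈ Z.basicOpen (ι.app V Cm.det) := by
    rw [Z.mem_basicOpen _ z (show z ∈ ι ⁻¹ᵁ V from hz)]
    exact h1.map _
  rw [← Scheme.preimage_basicOpen] at h2
  refine ⟨X.basicOpen Cm.det, (X.basicOpen_le _).trans hV, h2, ?_⟩
  let V' := X.basicOpen Cm.det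
  refine isFrame_of_det (hs.res (X.basicOpen_le _)) (Cm.map (resR (X.basicOpen_le Cm.det))) (fun i => ?_) ?_
  · refine (comb_res_base s (X.basicOpen_le Cm.det) le_rfl _).trans ?_
    rw [← res_res hV (X.basicOpen_le Cm.det), ← hC i, res_comb]
    rfl
  · rw [← RingHom.mapMatrix_apply, ← RingHom.map_det]
    exact isUnit_resR _ _ le_rfl

variable [IsClosedImmersion ι] [IsClosedImmersion ι'] [IsAffineHom π] [UniversallyClosed π]

theorem exists_frames_at_point (G : IsGluedSquare ι q π ι') (hLX : FlatMod.IsFinLocFreeOfRank n LX)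
    (hLZ' : FlatMod.IsFinLocFreeOfRank n LZ') (p : X') :
    ∃ W : X'.Opens, p ∈ W ∧ ∃ (sX : Fin n → Γ(LX, π ⁻¹ᵁ W)) (sZ : Fin n → Γ(LZ', ι' ⁻¹ᵁ W)),
      Frame.IsFrame LX sX ∧ Frame.IsFrame LZ' sZ ∧ ∀ i, glueX σ G.w W (sX i) = unitSec q LZ' (sZ i) := by
  classical
  have hcl := π.isClosedMap
  have hclι := ι'.isClosedEmbedding.isClosedMap
  by_cases hp : p ∈ Set.range ι'
  · obtain ⟨z', rfl⟩ := hp
    obtain ⟨U', hzU', ⟨e⟩⟩ := hLZ' z'
    obtain ⟨s, hs⟩ := Frame.exists_frame e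
    obtain ⟨O', hO', hO'U⟩ := ι'.isClosedEmbedding.isInducing.isOpen_iff.mp U'.isOpen
    obtain ⟨W₀, hW₀, hpW₀, hW₀s⟩ := exists_isAffineOpen_mem_and_subset (x := ι' z') (U := ⟨O', hO'⟩)
      (show z' ∈ ι' ⁻¹' O' by rw [hO'U]; exact hzU')
    have hWU : ι' ⁻¹ᵁ W₀ ≤ U' := fun w hw => by
      show w ∈ (U' : Set Z')
      rw [← hO'U]; exact hW₀s hw
    let O : X.Opens := π ⁻¹ᵁ W₀
    have hO : IsAffineOpen O := hW₀.preimage π
    have hqO := square_preimage ι q π ι' G.w W₀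
    let t : Fin n → Γ((Scheme.Modules.pullback ι).obj LX, ι ⁻¹ᵁ O) := fun i =>
      σ.inv.app (ι ⁻¹ᵁ O) (res _ hqO.ge (unitSec q LZ' (res LZ' hWU (s i))))
    have htF : Frame.IsFrame ((Scheme.Modules.pullback ι).obj LX) t :=
      isFrame_map_iso σ.symm ((isFrame_unitSec (hs.res hWU) q).res hqO.ge)
    have hqc := QCoh.isQCoh_of_isFinLocFree (M := LX) (fun x => by
      obtain ⟨U, hx, e⟩ := hLX x
      exact ⟨U, n, hx, e⟩)
    choose v hv using fun i => (QCoh.unit_app_closed ι hqc hO).1 (t i)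
    let Good : X.Opens := ⨆ V : {V : X.Opens // ∃ h : V ≤ O, Frame.IsFrame LX fun i => res LX h (v i)}, V.1
    let W : X'.Opens := W₀ ⊓ ⟨(π '' (Good : Set X)ᶜ)ᶜ, (hcl _ Good.isOpen.isClosed_compl).isOpen_compl⟩
    have hpW : ι' z' ∈ W := by
      refine ⟨hpW₀, ?_⟩
      rintro ⟨x, hx, hxp⟩
      obtain ⟨z, rfl, -⟩ := G.cart x z' hxp
      have hxO : ι z ∈ O := by show π (ι z) ∈ W₀; rw [hxp]; exact hpW₀
      obtain ⟨U, hzU, ⟨e'⟩⟩ := hLX (ι z)
      obtain ⟨s', hs'⟩ := Frame.exists_frame e'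
      have hle : U ⊓ O ≤ O := inf_le_right
      have hfr : Frame.IsFrame ((Scheme.Modules.pullback ι).obj LX) fun i => unitSec ι LX (res LX hle (v i)) := by
        have h1 := htF.res (ι.preimage_mono hle)
        simp only [← hv] at h1
        simp only [unitSec_res]
        exact h1
      obtain ⟨V', h, hzV', hV'⟩ := exists_frame_nhd v hle (hs'.res (inf_le_left : U ⊓ O ≤ U)) hfr z ⟨hzU, hxO⟩
      exact hx (Opens.mem_iSup.mpr ⟨⟨V', h, hV'⟩, hzV'⟩)
    have hWW : π ⁻¹ᵁ W ≤ O := π.preimage_mono inf_le_left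
    refine ⟨W, hpW, fun i => res LX hWW (v i),
      fun i => res LZ' ((ι'.preimage_mono inf_le_left).trans hWU) (s i), ?_, hs.res _, fun i => ?_⟩
    · refine isFrame_of_locally _ fun x hx => ?_
      have hxG : x ∈ Good := by
        by_contra hn
        exact (show π x ∈ W from hx).2 ⟨x, hn, rfl⟩
      obtain ⟨⟨V, hVO, hVF⟩, hxV⟩ := Opens.mem_iSup.mp hxG
      refine ⟨V ⊓ π ⁻¹ᵁ W, inf_le_right, ⟨hxV, hx⟩, ?_⟩
      have h1 := hVF.res (inf_le_left : V ⊓ π ⁻¹ᵁ W ≤ V)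
      simp only [res_res]
      convert h1 using 1
      funext i
      exact (res_res hVO inf_le_left (v i)).symm
    · dsimp only
      rw [glueX_res σ G.w (inf_le_left : W ≤ W₀), ← res_res hWU (ι'.preimage_mono inf_le_left), unitSec_res]
      refine congrArg (res _ _) ?_
      show res _ hqO.le (σ.hom.app (ι ⁻¹ᵁ O) (unitSec ι LX (v i))) = _
      rw [show unitSec ι LX (v i) = t i from hv i]
      show res _ hqO.le (σ.hom.app (ι ⁻¹ᵁ O) (σ.inv.app (ι ⁻¹ᵁ O) _)) = _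
      rw [← ConcreteCategory.comp_apply, ← Scheme.Modules.Hom.comp_app, σ.inv_hom_id]
      exact (res_res _ _ _).trans (res_self _)
  · let R : X'.Opens := ⟨(Set.range ι')ᶜ, (ι'.isClosedEmbedding.isClosed_range).isOpen_compl⟩
    obtain ⟨V, sV, hsV, hfib⟩ : ∃ (V : X.Opens) (sV : Fin n → Γ(LX, V)), Frame.IsFrame LX sV ∧
        ∀ x, π x = p → x ∈ V := by
      by_cases hne : ∃ x, π x = p
      · obtain ⟨x, rfl⟩ := hne
        obtain ⟨V, hxV, ⟨e⟩⟩ := hLX x
        obtain ⟨s, hs⟩ := Frame.exists_frame e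
        refine ⟨V, s, hs, fun x' hx' => ?_⟩
        rcases G.fib x' x hx' with rfl | ⟨y, hy⟩
        · exact hxV
        · exact absurd ⟨y, hy.symm.trans hx'⟩ hp
      · exact ⟨⊥, fun _ => 0, isFrame_of_le_bot _ le_rfl, fun x hx => (hne ⟨x, hx⟩).elim⟩
    let W : X'.Opens := R ⊓ ⟨(π '' (V : Set X)ᶜ)ᶜ, (hcl _ V.isOpen.isClosed_compl).isOpen_compl⟩
    have hWV : π ⁻¹ᵁ W ≤ V := fun x hx => by
      by_contra hn
      exact (show π x ∈ W from hx).2 ⟨x, hn, rfl⟩
    have hW0 : ι' ⁻¹ᵁ W ≤ ⊥ := fun z hz => ((show ι' z ∈ W from hz).1 ⟨z, rfl⟩).elim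
    refine ⟨W, ⟨hp, ?_⟩, fun i => res LX hWV (sV i), fun _ => 0, hsV.res hWV,
      isFrame_of_le_bot _ hW0, fun i => eq_of_locally _ _ fun z hz => (hW0 (show q z ∈ ι' ⁻¹ᵁ W from hz)).elim⟩
    rintro ⟨x, hx, hxp⟩
    exact hx (hfib x hxp)

/-- Locally free modules glue along a pinching square. -/
theorem exists_glued (G : IsGluedSquare ι q π ι') (hLX : FlatMod.IsFinLocFreeOfRank n LX)
    (hLZ' : FlatMod.IsFinLocFreeOfRank n LZ') :
    ∃ (M : X'.Modules) (eX : (Scheme.Modules.pullback π).obj M ≅ LX)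
      (eZ' : (Scheme.Modules.pullback ι').obj M ≅ LZ'),
      FlatMod.IsFinLocFreeOfRank n M ∧
      (Scheme.Modules.pullbackComp ι π).app M ≪≫ (Scheme.Modules.pullbackCongr G.w).app M ≪≫
          ((Scheme.Modules.pullbackComp q ι').app M).symm ≪≫ (Scheme.Modules.pullback q).mapIso eZ' =
        (Scheme.Modules.pullback ι).mapIso eX ≪≫ σ := by
  classical
  let lX := legX σ G.w
  let lZ := legZ (q := q) (ι' := ι') LZ'
  let M := pullback lX lZ
  let pX : M ⟶ (Scheme.Modules.pushforward π).obj LX := pullback.fst lX lZ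
  let pZ : M ⟶ (Scheme.Modules.pushforward ι').obj LZ' := pullback.snd lX lZ
  have hcond : ∀ (W : X'.Opens) (m : Γ(M, W)), glueX σ G.w W (pX.app W m) = unitSec q LZ' (pZ.app W m) :=
    fun W m => congrArg (fun φ : M ⟶ _ => φ.app W m) (pullback.condition (f := lX) (g := lZ))
  have hsec : ∀ W : X'.Opens, IsPullback ((pX.app W)) ((pZ.app W)) (lX.app W) (lZ.app W) := fun W =>
    ((IsPullback.of_hasPullback lX lZ).map (Scheme.Modules.toPresheaf X')).map ((evaluation _ _).obj (op W))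
  have hext : ∀ (W : X'.Opens) (m m' : Γ(M, W)), pX.app W m = pX.app W m' → pZ.app W m = pZ.app W m' → m = m' :=
    fun W m m' h1 h2 => Types.ext_of_isPullback ((hsec W).map (forget Ab)) h1 h2
  have hex : ∀ (W : X'.Opens) (x : Γ(LX, π ⁻¹ᵁ W)) (y : Γ(LZ', ι' ⁻¹ᵁ W)),
      glueX σ G.w W x = unitSec q LZ' y → ∃ m : Γ(M, W), pX.app W m = x ∧ pZ.app W m = y :=
    fun W x y h => Types.exists_of_isPullback ((hsec W).map (forget Ab)) x y h
  choose W hpW sX sZ hsX hsZ hcompat using exists_frames_at_point σ G hLX hLZ'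
  choose sM hsMX hsMZ using fun p i => hex (W p) (sX p i) (sZ p i) (hcompat p i)
  have hsM : ∀ p, Frame.IsFrame M (sM p) := by
    intro p V hV
    have hX : ∀ c, pX.app V (Frame.comb M (sM p) V hV c) =
        Frame.comb LX (sX p) (π ⁻¹ᵁ V) (π.preimage_mono hV) (fun i => π.app V (c i)) := fun c => by
      rw [app_comb]
      simp only [hsMX]
      rfl
    have hZ : ∀ c, pZ.app V (Frame.comb M (sM p) V hV c) =
        Frame.comb LZ' (sZ p) (ι' ⁻¹ᵁ V) (ι'.preimage_mono hV) (fun i => ι'.app V (c i)) := fun c => by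
      rw [app_comb]
      simp only [hsMZ]
      rfl
    constructor
    · intro c c' hcc
      have h1 := (hsX p (π ⁻¹ᵁ V) (π.preimage_mono hV)).1 ((hX c).symm.trans ((congrArg (pX.app V) hcc).trans (hX c')))
      have h2 := (hsZ p (ι' ⁻¹ᵁ V) (ι'.preimage_mono hV)).1 ((hZ c).symm.trans ((congrArg (pZ.app V) hcc).trans (hZ c')))
      exact funext fun i => G.sec_ext V _ _ (congrFun h1 i) (congrFun h2 i)
    · intro m
      obtain ⟨a, ha⟩ := (hsX p (π ⁻¹ᵁ V) (π.preimage_mono hV)).2 (pX.app V m)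
      obtain ⟨b, hb⟩ := (hsZ p (ι' ⁻¹ᵁ V) (ι'.preimage_mono hV)).2 (pZ.app V m)
      have h1 := hcond V m
      rw [← ha, ← hb, glueX_comb σ G.w hV, unitSec_comb] at h1
      simp only [hcompat] at h1
      have h2 := (isFrame_unitSec (hsZ p) q (q ⁻¹ᵁ (ι' ⁻¹ᵁ V)) (q.preimage_mono (ι'.preimage_mono hV))).1 h1
      have hc : ∀ i, ∃ c : Γ(X', V), π.app V c = a i ∧ ι'.app V c = b i := fun i => by
        refine G.sec_glue V (a i) (b i) (square_preimage ι q π ι' G.w V).ge ?_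
        have h3 := congrArg (resR (square_preimage ι q π ι' G.w V).ge) (congrFun h2 i)
        rw [resR_resR, resR_self] at h3
        rw [← Scheme.Hom.app_eq_appLE]
        exact h3
      choose c hc1 hc2 using hc
      refine ⟨c, hext V _ _ ?_ ?_⟩
      · rw [hX, ← ha]; exact congrArg _ (funext hc1)
      · rw [hZ, ← hb]; exact congrArg _ (funext hc2)
  let aX := Scheme.Modules.pullbackPushforwardAdjunction π
  let aZ := Scheme.Modules.pullbackPushforwardAdjunction ι'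
  let fX' : (Scheme.Modules.pullback π).obj M ⟶ LX := (aX.homEquiv _ _).symm pX
  let fZ' : (Scheme.Modules.pullback ι').obj M ⟶ LZ' := (aZ.homEquiv _ _).symm pZ
  have hfX : ∀ (V : X'.Opens) (m : Γ(M, V)), fX'.app (π ⁻¹ᵁ V) (unitSec π M m) = pX.app V m := fun V m =>
    congrArg (fun φ : M ⟶ (Scheme.Modules.pushforward π).obj LX => φ.app V m)
      (((aX.homEquiv_unit _ _ fX').symm).trans ((aX.homEquiv _ _).apply_symm_apply pX))
  have hfZ : ∀ (V : X'.Opens) (m : Γ(M, V)), fZ'.app (ι' ⁻¹ᵁ V) (unitSec ι' M m) = pZ.app V m := fun V m =>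
    congrArg (fun φ : M ⟶ (Scheme.Modules.pushforward ι').obj LZ' => φ.app V m)
      (((aZ.homEquiv_unit _ _ fZ').symm).trans ((aZ.homEquiv _ _).apply_symm_apply pZ))
  have key : ∀ {Y : Scheme.{u}} (g : Y ⟶ X') {N : Y.Modules} (φ : (Scheme.Modules.pullback g).obj M ⟶ N)
      (sN : ∀ p, Fin n → Γ(N, g ⁻¹ᵁ W p)), (∀ p, Frame.IsFrame N (sN p)) →
      (∀ p i, φ.app (g ⁻¹ᵁ W p) (unitSec g M (sM p i)) = sN p i) → IsIso φ := by
    intro Y g N φ sN hsN hφ
    have hB : Opens.IsBasis {V : Y.Opens | ∃ p, V ≤ g ⁻¹ᵁ W p} := Opens.isBasis_iff_nbhd.mpr fun {V y} hy =>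
      ⟨V ⊓ g ⁻¹ᵁ W (g y), ⟨g y, inf_le_right⟩, ⟨hy, hpW (g y)⟩, inf_le_left⟩
    refine QCoh.isIso_of_isBasis φ hB fun V ⟨p, hV⟩ => ?_
    have h1 := isFrame_unitSec (hsM p) g V hV
    refine (Function.Bijective.of_comp_iff _ h1).mp ?_
    have e : (fun x => φ.app V x) ∘ Frame.comb _ (fun i => unitSec g M (sM p i)) V hV =
        Frame.comb N (sN p) V hV := funext fun c => by
      show φ.app V (Frame.comb _ _ V hV c) = _
      rw [app_comb]
      simp only [hφ]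
    exact e ▸ hsN p V hV
  haveI hiX : IsIso fX' := key π fX' sX hsX fun p i => (hfX _ _).trans (hsMX p i)
  haveI hiZ : IsIso fZ' := key ι' fZ' sZ hsZ fun p i => (hfZ _ _).trans (hsMZ p i)
  refine ⟨M, asIso fX', asIso fZ', fun p => ⟨W p, hpW p, Frame.exists_iso_of_frame _ (hsM p)⟩, Iso.ext ?_⟩
  show (Scheme.Modules.pullbackComp ι π).hom.app M ≫ (Scheme.Modules.pullbackCongr G.w).hom.app M ≫
      (Scheme.Modules.pullbackComp q ι').inv.app M ≫ (Scheme.Modules.pullback q).map fZ' =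
    (Scheme.Modules.pullback ι).map fX' ≫ σ.hom
  refine ((Scheme.Modules.pullbackPushforwardAdjunction ι).homEquiv _ _).injective (((aX).homEquiv _ _).injective ?_)
  rw [aX.homEquiv_unit, aX.homEquiv_unit, Adjunction.homEquiv_unit, Adjunction.homEquiv_unit]
  refine Scheme.Modules.hom_ext _ _ fun V => ?_
  ext m
  show ((Scheme.Modules.pullback q).map fZ').app _ ((swapIso G.w M).hom.app (ι ⁻¹ᵁ (π ⁻¹ᵁ V))
      (unitSec ι _ (unitSec π M m))) =
    σ.hom.app _ (((Scheme.Modules.pullback ι).map fX').app _ (unitSec ι _ (unitSec π M m)))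
  rw [unitSec_natural, hfX, swap_unitSec G.w m, app_res, unitSec_natural, hfZ, ← hcond V m]
  exact (res_res _ _ _).trans (res_self _)

end PinchPO7
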