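import Mathlib
import Groth.Agent.RingPO.BaseChange

universe u
set_option autoImplicit false
open AlgebraicGeometry CategoryTheory CategoryTheory.Limits TopologicalSpace Opposite TensorProduct

namespace PinchPO7
open RingPO

/-- `q` is injective with flat cokernel over the base. -/
def CokerFlat {R B A : Type u} [CommRing R] [CommRing B] [CommRing A] (ρ : R →+* B) (q : B →+* A) : Prop :=
  Function.Injective q ∧ ∀ (alg : Algebra R A), (∀ r, @algebraMap R A _ _ alg r = q (ρ r)) →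
    letI := alg
    Module.Flat R (A ⧸ Submodule.span R (Set.range q))

section
variable {R A A' B C : Type u} [CommRing R] [CommRing A] [CommRing A'] [CommRing B] [CommRing C]
  [Algebra R A] [Algebra R A'] [Algebra R B] [Algebra R C]
variable {p : A' →ₐ[R] A} {q : B →ₐ[R] A} {α : C →ₐ[R] A'} {β : C →ₐ[R] B}

/-- Base change of a fibre product. -/
theorem tensor_of_injective (h : IsFibreProd p.toRingHom q.toRingHom α.toRingHom β.toRingHom) (R' : Type u)
    [CommRing R'] [Algebra R R'] (hα : Function.Injective (Algebra.TensorProduct.map α (AlgHom.id R R'))) :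
    IsFibreProd (Algebra.TensorProduct.map p (AlgHom.id R R')).toRingHom
      (Algebra.TensorProduct.map q (AlgHom.id R R')).toRingHom
      (Algebra.TensorProduct.map α (AlgHom.id R R')).toRingHom
      (Algebra.TensorProduct.map β (AlgHom.id R R')).toRingHom := by
  obtain ⟨h1, h2, h3⟩ := h.exact_diff
  set ι := α.toLinearMap.prod β.toLinearMap
  set d := p.toLinearMap ∘ₗ LinearMap.fst R A' B - q.toLinearMap ∘ₗ LinearMap.snd R A' B with hd'
  let e := TensorProduct.prodLeft R R A' B R'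
  have he : ∀ z, e (ι.rTensor R' z) = (Algebra.TensorProduct.map α (AlgHom.id R R') z,
      Algebra.TensorProduct.map β (AlgHom.id R R') z) := by
    intro z
    induction z using TensorProduct.induction_on with
    | zero => simp only [map_zero]; rfl
    | tmul c r => rfl
    | add x y hx hy => simp only [map_add, hx, hy, Prod.mk_add_mk]
  have hd : ∀ y, d.rTensor R' y = Algebra.TensorProduct.map p (AlgHom.id R R') (e y).1 -
      Algebra.TensorProduct.map q (AlgHom.id R R') (e y).2 := by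
    intro y
    induction y using TensorProduct.induction_on with
    | zero => simp
    | tmul c r =>
      show (p c.1 - q c.2) ⊗ₜ[R] r = p c.1 ⊗ₜ[R] r - q c.2 ⊗ₜ[R] r
      exact TensorProduct.sub_tmul _ _ _
    | add x y hx hy =>
      simp only [map_add, hx, hy, Prod.fst_add, Prod.snd_add]
      abel
  have hex := rTensor_exact R' h3 h2
  refine ⟨?_, fun z => ?_, fun z z' hz _ => hα hz, fun b a hab => ?_⟩
  · intro x
    induction x using TensorProduct.induction_on with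
    | zero => exact ⟨0, map_zero _⟩
    | tmul c r =>
      obtain ⟨a, ha⟩ := h.surj c
      exact ⟨a ⊗ₜ r, show p a ⊗ₜ[R] r = c ⊗ₜ[R] r from congrArg (· ⊗ₜ[R] r) ha⟩
    | add x y hx hy =>
      obtain ⟨a, ha⟩ := hx
      obtain ⟨b, hb⟩ := hy
      exact ⟨a + b, by rw [map_add, ha, hb]⟩
  · have h0 : d.rTensor R' (ι.rTensor R' z) = 0 := hex.apply_apply_eq_zero z
    rw [hd, he, sub_eq_zero] at h0
    exact h0
  · obtain ⟨z, hz⟩ := (hex (e.symm (a, b))).mp (by
      rw [hd, LinearEquiv.apply_symm_apply, sub_eq_zero]; exact hab)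
    have := he z
    rw [hz, LinearEquiv.apply_symm_apply] at this
    exact ⟨z, (congrArg Prod.fst this).symm, (congrArg Prod.snd this).symm⟩

/-- Base change of a fibre product along an injection with flat cokernel. -/
theorem tensor_of_coker (h : IsFibreProd p.toRingHom q.toRingHom α.toRingHom β.toRingHom)
    (hqi : Function.Injective q) (hco : Module.Flat R (A ⧸ LinearMap.range q.toLinearMap)) (R' : Type u)
    [CommRing R'] [Algebra R R'] :
    IsFibreProd (Algebra.TensorProduct.map p (AlgHom.id R R')).toRingHom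
      (Algebra.TensorProduct.map q (AlgHom.id R R')).toRingHom
      (Algebra.TensorProduct.map α (AlgHom.id R R')).toRingHom
      (Algebra.TensorProduct.map β (AlgHom.id R R')).toRingHom := by
  haveI := hco
  let π : A' →ₗ[R] A ⧸ LinearMap.range q.toLinearMap := (LinearMap.range q.toLinearMap).mkQ ∘ₗ p.toLinearMap
  have hπs : Function.Surjective π := (Submodule.mkQ_surjective _).comp h.surj
  have hπ : Function.Exact α.toLinearMap π := by
    intro x
    show Submodule.Quotient.mk (p x) = 0 ↔ _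
    rw [Submodule.Quotient.mk_eq_zero]
    constructor
    · rintro ⟨y, hy⟩
      obtain ⟨z, hz, -⟩ := h.exists_of_eq y x hy.symm
      exact ⟨z, hz⟩
    · rintro ⟨z, rfl⟩
      exact ⟨β z, (h.comm z).symm⟩
  have hαi : Function.Injective α.toLinearMap := fun z z' hz => h.ext z z' hz (hqi (by
    show q.toRingHom (β z) = q.toRingHom (β z')
    have h1 := h.comm z
    have h2 := h.comm z'
    exact h1.symm.trans ((congrArg p hz).trans h2)))
  have hι : Function.Injective (α.toLinearMap.rTensor R') :=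
    (LinearMap.lTensor_inj_iff_rTensor_inj R' α.toLinearMap).mp
      (LinearMap.lTensor_injective_of_exact_of_flat π hπs α.toLinearMap hαi hπ R')
  exact tensor_of_injective h R' (fun z z' hz => hι hz)
end

variable {X Y Z P : Scheme.{u}} {i : Z ⟶ X} {j : Z ⟶ Y} {a : X ⟶ P} {b : Y ⟶ P} [IsClosedImmersion i]

/-- Base change of a pushout along a closed immersion with affine legs. -/
theorem isPushout_baseChange_of_coker (h : IsPushout i j a b) (hY : ∀ y : Y, ∃ c : Chart i j, y ∈ c.V) [IsAffineHom a] [IsAffineHom b]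
    {S T PT XT YT ZT : Scheme.{u}} (sP : P ⟶ S) (g : T ⟶ S) (hloc : ∀ x : P, ∃ (Sa : S.Opens) (_ : IsAffineOpen Sa) (U : P.Opens) (hU : IsAffineOpen U) (eS : U ≤ sP ⁻¹ᵁ Sa),
      x ∈ U ∧ CokerFlat ((b.appLE U (b ⁻¹ᵁ U) le_rfl).hom.comp (sP.appLE Sa U eS).hom) (chartOver h hU).q)
    {pP : PT ⟶ P} {sT : PT ⟶ T} (hPT : IsPullback pP sT sP g)
    {pX : XT ⟶ X} {aT : XT ⟶ PT} (hXT : IsPullback pX aT a pP)
    {pY : YT ⟶ Y} {bT : YT ⟶ PT} (hYT : IsPullback pY bT b pP)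
    {pZ : ZT ⟶ Z} {iT : ZT ⟶ XT} (hZT : IsPullback pZ iT i pX)
    {jT : ZT ⟶ YT} (hj₁ : jT ≫ pY = pZ ≫ j) (hj₂ : iT ≫ aT = jT ≫ bT) : IsPushout iT jT aT bT := by
  haveI := isClosedImmersion_inr h hY
  have key : ∀ x : PT, ∃ M : Model iT jT aT bT, x ∈ Set.range M.φ := by
    intro x
    obtain ⟨Sa, hSa, U, hU, eS, hxU, hqi, hco⟩ := hloc (pP x)
    have hxS : sP (pP x) ∈ Sa := eS hxU
    have hgx : g (sT x) = sP (pP x) := congr($(hPT.w) x).symm
    obtain ⟨Ta, hTa, hxT, hTs⟩ := exists_isAffineOpen_mem_and_subset (x := sT x) (U := g ⁻¹ᵁ Sa)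
      (show g (sT x) ∈ Sa by rw [hgx]; exact hxS)
    have eT : Ta ≤ g ⁻¹ᵁ Sa := hTs
    set c := chartOver h hU
    have hF := isFibreProd_of_affineOpen h hY hU
    letI : Algebra Γ(S, Sa) Γ(P, U) := (sP.appLE Sa U eS).hom.toAlgebra
    letI : Algebra Γ(S, Sa) Γ(T, Ta) := (g.appLE Sa Ta eT).hom.toAlgebra
    letI : Algebra Γ(S, Sa) Γ(X, a ⁻¹ᵁ U) := ((a.appLE U (a ⁻¹ᵁ U) le_rfl).hom.comp (sP.appLE Sa U eS).hom).toAlgebra
    letI : Algebra Γ(S, Sa) Γ(Y, b ⁻¹ᵁ U) := ((b.appLE U (b ⁻¹ᵁ U) le_rfl).hom.comp (sP.appLE Sa U eS).hom).toAlgebra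
    letI : Algebra Γ(S, Sa) Γ(Z, i ⁻¹ᵁ a ⁻¹ᵁ U) :=
      (c.p.comp ((a.appLE U (a ⁻¹ᵁ U) le_rfl).hom.comp (sP.appLE Sa U eS).hom)).toAlgebra
    let α : Γ(P, U) →ₐ[Γ(S, Sa)] Γ(X, a ⁻¹ᵁ U) := { (a.appLE U (a ⁻¹ᵁ U) le_rfl).hom with commutes' := fun _ => rfl }
    let β : Γ(P, U) →ₐ[Γ(S, Sa)] Γ(Y, b ⁻¹ᵁ U) := { (b.appLE U (b ⁻¹ᵁ U) le_rfl).hom with commutes' := fun _ => rfl }
    let p : Γ(X, a ⁻¹ᵁ U) →ₐ[Γ(S, Sa)] Γ(Z, i ⁻¹ᵁ a ⁻¹ᵁ U) := { c.p with commutes' := fun _ => rfl }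
    let q : Γ(Y, b ⁻¹ᵁ U) →ₐ[Γ(S, Sa)] Γ(Z, i ⁻¹ᵁ a ⁻¹ᵁ U) := { c.q with commutes' := fun r => (hF.comm _).symm }
    have hF' : IsFibreProd p.toRingHom q.toRingHom α.toRingHom β.toRingHom := hF
    have hco' : Module.Flat Γ(S, Sa) (Γ(Z, i ⁻¹ᵁ a ⁻¹ᵁ U) ⧸ LinearMap.range q.toLinearMap) := by
      have h1 := hco (c.p.comp ((a.appLE U (a ⁻¹ᵁ U) le_rfl).hom.comp (sP.appLE Sa U eS).hom)).toAlgebra (fun r => hF.comm _)
      have e : LinearMap.range q.toLinearMap = Submodule.span Γ(S, Sa) (Set.range q) :=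
        ((Submodule.span_eq _).symm.trans (congrArg _ (LinearMap.coe_range q.toLinearMap)))
      rw [e]; exact h1
    have hM := tensor_of_coker hF' hqi hco' Γ(T, Ta)
    let iC : Γ(P, U) →+* Γ(P, U) ⊗[Γ(S, Sa)] Γ(T, Ta) := Algebra.TensorProduct.includeLeftRingHom
    let iT' : Γ(T, Ta) →+* Γ(P, U) ⊗[Γ(S, Sa)] Γ(T, Ta) :=
      (Algebra.TensorProduct.includeRight : Γ(T, Ta) →ₐ[Γ(S, Sa)] Γ(P, U) ⊗[Γ(S, Sa)] Γ(T, Ta)).toRingHom
    have hsq : IsPullback (Spec.map (CommRingCat.ofHom iC)) (Spec.map (CommRingCat.ofHom iT'))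
        (Spec.map (sP.appLE Sa U eS)) (Spec.map (g.appLE Sa Ta eT)) :=
      isPullback_SpecMap_of_isPushout _ _ _ _ (CommRingCat.isPushout_tensorProduct Γ(S, Sa) Γ(P, U) Γ(T, Ta))
    let m := pullback.map (Spec.map (sP.appLE Sa U eS)) (Spec.map (g.appLE Sa Ta eT)) sP g hU.fromSpec hTa.fromSpec
      hSa.fromSpec (hSa.SpecMap_appLE_fromSpec sP hU eS) (hSa.SpecMap_appLE_fromSpec g hTa eT)
    let φ : Spec (CommRingCat.of (Γ(P, U) ⊗[Γ(S, Sa)] Γ(T, Ta))) ⟶ PT := hsq.isoPullback.hom ≫ m ≫ hPT.isoPullback.inv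
    have hφP : φ ≫ pP = Spec.map (CommRingCat.ofHom iC) ≫ hU.fromSpec := by
      simp only [φ, m, Category.assoc, IsPullback.isoPullback_inv_fst, pullback.lift_fst,
        IsPullback.isoPullback_hom_fst_assoc]
    have mkLeg : ∀ {W : Scheme.{u}} {WT : Scheme.{u}} {f : W ⟶ P} {pW : WT ⟶ W} {fT : WT ⟶ PT}
        (hWT : IsPullback pW fT f pP) [IsAffineHom f] [Algebra Γ(S, Sa) Γ(W, f ⁻¹ᵁ U)]
        (F : Γ(P, U) →ₐ[Γ(S, Sa)] Γ(W, f ⁻¹ᵁ U)), F.toRingHom = (f.appLE U (f ⁻¹ᵁ U) le_rfl).hom →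
        ∃ u : Spec (CommRingCat.of (Γ(W, f ⁻¹ᵁ U) ⊗[Γ(S, Sa)] Γ(T, Ta))) ⟶ WT,
          u ≫ pW = Spec.map (CommRingCat.ofHom Algebra.TensorProduct.includeLeftRingHom) ≫ (hU.preimage f).fromSpec ∧
          IsPullback u (Spec.map (CommRingCat.ofHom (Algebra.TensorProduct.map F (AlgHom.id _ _)).toRingHom)) fT φ := by
      intro W WT f pW fT hWT _ _ F hFeq
      have h1 := isPullback_specTensor (R' := Γ(T, Ta)) F
      rw [show CommRingCat.ofHom F.toRingHom = f.appLE U (f ⁻¹ᵁ U) le_rfl from CommRingCat.hom_ext hFeq] at h1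
      have h2 := h1.paste_horiz (isPullback_fromSpec f hU)
      rw [← hφP] at h2
      refine ⟨hWT.lift _ _ (h2.w.trans (Category.assoc _ _ _).symm), hWT.lift_fst _ _ _, IsPullback.of_right ?_ (hWT.lift_snd _ _ _) hWT⟩
      rw [hWT.lift_fst]
      exact h2
    obtain ⟨uX, huX, hu⟩ := mkLeg hXT α rfl
    obtain ⟨vY, hvY, hv⟩ := mkLeg hYT β rfl
    have hwc : (Spec.map (CommRingCat.ofHom (Algebra.TensorProduct.includeLeftRingHom :
        Γ(Z, i ⁻¹ᵁ a ⁻¹ᵁ U) →+* Γ(Z, i ⁻¹ᵁ a ⁻¹ᵁ U) ⊗[Γ(S, Sa)] Γ(T, Ta))) ≫ ((hU.preimage a).preimage i).fromSpec) ≫ i =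
        (Spec.map (CommRingCat.ofHom (Algebra.TensorProduct.map p (AlgHom.id Γ(S, Sa) Γ(T, Ta))).toRingHom) ≫ uX) ≫ pX := by
      rw [Category.assoc, Category.assoc, huX, ← (hU.preimage a).SpecMap_appLE_fromSpec i ((hU.preimage a).preimage i) le_rfl,
        ← Spec.map_comp_assoc, ← Spec.map_comp_assoc]
      congr 1
    let w := hZT.lift _ _ hwc
    have hw₁ : w ≫ iT = Spec.map (CommRingCat.ofHom (Algebra.TensorProduct.map p (AlgHom.id _ _)).toRingHom) ≫ uX :=
      hZT.lift_snd _ _ _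
    have hw₂ : w ≫ jT = Spec.map (CommRingCat.ofHom (Algebra.TensorProduct.map q (AlgHom.id _ _)).toRingHom) ≫ vY := by
      refine hYT.hom_ext ?_ ?_
      · rw [Category.assoc, hj₁, ← Category.assoc, hZT.lift_fst, Category.assoc, Category.assoc, hvY,
          ← (hU.preimage b).SpecMap_appLE_fromSpec j ((hU.preimage a).preimage i) c.eq.le, ← Spec.map_comp_assoc,
          ← Spec.map_comp_assoc]
        congr 1
      · rw [Category.assoc, ← hj₂, reassoc_of% hw₁, hu.w, Category.assoc, hv.w, ← Spec.map_comp_assoc,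
          ← Spec.map_comp_assoc]
        congr 2
        exact CommRingCat.hom_ext (RingHom.ext hM.comm)
    refine ⟨⟨_, _, _, _, _, _, _, _, hM, φ, uX, vY, w, hw₁, hw₂, hu, hv⟩, ?_⟩
    have hr : hPT.isoPullback.hom x ∈ Set.range m := by
      rw [Scheme.Pullback.range_map]
      refine ⟨?_, ?_⟩
      · rw [Set.mem_preimage, ← Scheme.Hom.comp_apply, IsPullback.isoPullback_hom_fst, hU.range_fromSpec]; exact hxU
      · rw [Set.mem_preimage, ← Scheme.Hom.comp_apply, IsPullback.isoPullback_hom_snd, hTa.range_fromSpec]; exact hxT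
    obtain ⟨y, hy⟩ := hr
    refine ⟨hsq.isoPullback.inv y, ?_⟩
    show (hsq.isoPullback.inv ≫ φ) y = x
    rw [Iso.inv_hom_id_assoc]
    show hPT.isoPullback.inv (m y) = x
    rw [hy]
    exact congr($(hPT.isoPullback.hom_inv_id) x)
  choose M hM using key
  exact isPushout_of_models hj₂ M (fun x => ⟨x, hM x⟩)

end PinchPO7
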