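import Groth.Agent.PinchPO7.ChartGlued
import Groth.Agent.PinchPO7.FlatInj

universe u
set_option autoImplicit false
open AlgebraicGeometry CategoryTheory CategoryTheory.Limits TopologicalSpace Opposite

namespace PinchPO7
open RingPO

variable {S X Z Z' X' : Scheme.{u}} {fX : X ⟶ S} {fZ' : Z' ⟶ S} {fX' : X' ⟶ S} {ι : Z ⟶ X} {q : Z ⟶ Z'}
  {π : X ⟶ X'} {ι' : Z' ⟶ X'}

theorem flat_of_affine_square [IsClosedImmersion ι] [IsAffineHom π] [IsAffineHom ι'] (hP : IsPushout ι q π ι')
    (hπ : π ≫ fX' = fX) (hι' : ι' ≫ fX' = fZ') [Flat fX] [Flat (ι ≫ fX)] [Flat fZ'] : Flat fX' := by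
  haveI : Flat ((ι ≫ π) ≫ fX') := by rw [Category.assoc, hπ]; infer_instance
  haveI : Flat (π ≫ fX') := by rw [hπ]; infer_instance
  haveI : Flat (ι' ≫ fX') := by rw [hι']; infer_instance
  exact flat_of_isPushout hP (chart_of_affineHom hP.w) fX'

theorem isAffineHom_of_isPullback {A B C D : Scheme.{u}} {p : A ⟶ B} {f' : A ⟶ C} {f : B ⟶ D} {g : C ⟶ D}
    (h : IsPullback p f' f g) [IsAffineHom f] : IsAffineHom f' :=
  MorphismProperty.of_isPullback (P := @IsAffineHom) h inferInstance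

/-- Base change of an affine pushout square is again glued. -/
theorem isGluedSquare_overBC [IsClosedImmersion ι] [IsAffineHom π] [IsAffineHom ι'] (hP : IsPushout ι q π ι')
    (hq : q ≫ fZ' = ι ≫ fX) (hπ : π ≫ fX' = fX) (hι' : ι' ≫ fX' = fZ') [Flat (ι ≫ fX)] {T : Scheme.{u}} (g : T ⟶ S) :
    IsGluedSquare ((Over.pullback g).map (Over.homMk ι rfl : Over.mk (ι ≫ fX) ⟶ Over.mk fX)).left
      ((Over.pullback g).map (Over.homMk q hq : Over.mk (ι ≫ fX) ⟶ Over.mk fZ')).left
      ((Over.pullback g).map (Over.homMk π hπ : Over.mk fX ⟶ Over.mk fX')).left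
      ((Over.pullback g).map (Over.homMk ι' hι' : Over.mk fZ' ⟶ Over.mk fX')).left := by
  have h1 := RingPO.isPullback_map_square hπ g (m := ((Over.pullback g).map
    (Over.homMk π hπ : Over.mk fX ⟶ Over.mk fX')).left) (pullback.lift_fst _ _ _) (pullback.lift_snd _ _ _)
  have h2 := RingPO.isPullback_map_square hι' g (m := ((Over.pullback g).map
    (Over.homMk ι' hι' : Over.mk fZ' ⟶ Over.mk fX')).left) (pullback.lift_fst _ _ _) (pullback.lift_snd _ _ _)
  have h3 := RingPO.isPullback_map_square (q := fX) (k := ι ≫ fX) rfl g (m := ((Over.pullback g).map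
    (Over.homMk ι rfl : Over.mk (ι ≫ fX) ⟶ Over.mk fX)).left) (pullback.lift_fst _ _ _) (pullback.lift_snd _ _ _)
  haveI := isAffineHom_of_isPullback h1
  haveI := isAffineHom_of_isPullback h2
  haveI := MorphismProperty.of_isPullback (P := @IsClosedImmersion) h3 ‹IsClosedImmersion ι›
  have hpo := RingPO.isPushout_baseChange hP (chart_of_affineHom hP.w) fX' g
    (Or.inl (by rw [Category.assoc, hπ]; infer_instance))
    (IsPullback.of_hasPullback fX' g) h1 h2 h3
    (jT := ((Over.pullback g).map (Over.homMk q hq : Over.mk (ι ≫ fX) ⟶ Over.mk fZ')).left)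
    (pullback.lift_fst _ _ _) (by
      refine pullback.hom_ext ?_ ?_
      · refine (Category.assoc _ _ _).trans (Eq.trans ?_ (Category.assoc _ _ _).symm)
        refine (congrArg (_ ≫ ·) (pullback.lift_fst _ _ _)).trans
          (Eq.trans ?_ (congrArg (_ ≫ ·) (pullback.lift_fst _ _ _)).symm)
        refine (pullback.lift_fst_assoc _ _ _ _).trans (Eq.trans ?_ (pullback.lift_fst_assoc _ _ _ _).symm)
        exact ((Category.assoc _ _ _).trans (congrArg (_ ≫ ·) hP.w)).trans (Category.assoc _ _ _).symm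
      · refine (Category.assoc _ _ _).trans (Eq.trans ?_ (Category.assoc _ _ _).symm)
        refine (congrArg (_ ≫ ·) (pullback.lift_snd _ _ _)).trans
          (Eq.trans ?_ (congrArg (_ ≫ ·) (pullback.lift_snd _ _ _)).symm)
        exact (pullback.lift_snd _ _ _).trans (pullback.lift_snd _ _ _).symm)
  exact isGluedSquare_of_pushout hpo (chart_of_affineHom hpo.w)

theorem app_eq_of_eq {A B : Scheme.{u}} {f g : A ⟶ B} (e : f = g) (W : B.Opens) {s t : Γ(B, W)}
    (h : f.app W s = f.app W t) : g.app W s = g.app W t := by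
  subst e; exact h

theorem isIso_app_of_eq {A B : Scheme.{u}} {f g : A ⟶ B} (e : f = g) (U : B.Opens) [h : IsIso (f.app U)] :
    IsIso (g.app U) := by
  subst e; exact h

theorem isIso_app_of_glued {Z X Y P T : Scheme.{u}} {i : Z ⟶ X} {j : Z ⟶ Y} {a : X ⟶ P} {b : Y ⟶ P}
    (G : IsGluedSquare i j a b) (m : P ⟶ T) [Flat j] [Surjective j] (U : T.Opens) [IsIso ((a ≫ m).app U)] :
    IsIso (m.app U) := by
  have hbij : Function.Bijective (fun t => a.app (m ⁻¹ᵁ U) (m.app U t)) := by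
    have h := ConcreteCategory.bijective_of_isIso ((a ≫ m).app U)
    rw [Scheme.Hom.comp_app] at h
    exact h
  refine (ConcreteCategory.isIso_iff_bijective _).mpr ⟨fun s t h => hbij.1 (congrArg (a.app (m ⁻¹ᵁ U)) h), fun s => ?_⟩
  obtain ⟨t, ht⟩ := hbij.2 (a.app (m ⁻¹ᵁ U) s)
  refine ⟨t, G.sec_ext _ _ _ ht ?_⟩
  refine app_injective j _ ?_
  have h2 : (i ≫ a).app (m ⁻¹ᵁ U) (m.app U t) = (i ≫ a).app (m ⁻¹ᵁ U) s := congrArg (i.app _) ht
  exact app_eq_of_eq G.w _ h2

end PinchPO7
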