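import Mathlib

universe u
set_option autoImplicit false
open AlgebraicGeometry CategoryTheory CategoryTheory.Limits TopologicalSpace Opposite

namespace PinchPO7

section appLE
variable {X Y W : PresheafedSpace CommRingCat.{u}}

/-- Pullback of sections followed by restriction, for presheafed spaces. -/
noncomputable def pAppLE (f : X ⟶ Y) (V : Opens Y) (U : Opens X) (h : U ≤ (Opens.map f.base).obj V) :
    Y.presheaf.obj (op V) ⟶ X.presheaf.obj (op U) :=
  f.c.app (op V) ≫ X.presheaf.map (homOfLE h).op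

theorem pAppLE_congr {f g : X ⟶ Y} (e : f = g) (V : Opens Y) (U : Opens X) (h : U ≤ (Opens.map f.base).obj V) :
    pAppLE f V U h = pAppLE g V U (e ▸ h) := by
  subst e; rfl

theorem pAppLE_id (V U : Opens X) (h : U ≤ (Opens.map (𝟙 X : X ⟶ X).base).obj V) :
    pAppLE (𝟙 X) V U h = X.presheaf.map (homOfLE (show U ≤ V from h)).op := by
  show 𝟙 _ ≫ _ = _
  rw [Category.id_comp]; rfl

theorem map_pAppLE (f : X ⟶ Y) {V V' : Opens Y} (U : Opens X) (h : U ≤ (Opens.map f.base).obj V) (e : V ≤ V') :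
    Y.presheaf.map (homOfLE e).op ≫ pAppLE f V U h =
      pAppLE f V' U (h.trans ((Opens.map f.base).map (homOfLE e)).le) := by
  rw [pAppLE, pAppLE, f.c.naturality_assoc]
  congr 1
  show X.presheaf.map _ ≫ X.presheaf.map _ = _
  rw [← X.presheaf.map_comp]; rfl

theorem pAppLE_comp (f : X ⟶ Y) (g : Y ⟶ W) (V : Opens W) (U' : Opens Y) (U : Opens X)
    (h1 : U' ≤ (Opens.map g.base).obj V) (h2 : U ≤ (Opens.map f.base).obj U') :
    pAppLE g V U' h1 ≫ pAppLE f U' U h2 =
      pAppLE (f ≫ g) V U (h2.trans ((Opens.map f.base).map (homOfLE h1)).le) := by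
  rw [pAppLE, Category.assoc, map_pAppLE, pAppLE, pAppLE, ← Category.assoc]
  rfl

theorem p_hom_ext {f g : X ⟶ Y} (e : f.base = g.base)
    (h : ∀ (V : Opens Y) (U : Opens X) (h1 : U ≤ (Opens.map f.base).obj V)
      (h2 : U ≤ (Opens.map g.base).obj V), pAppLE f V U h1 = pAppLE g V U h2) : f = g := by
  obtain ⟨fb, fc⟩ := f
  obtain ⟨gb, gc⟩ := g
  dsimp at e
  subst e
  refine congrArg (PresheafedSpace.Hom.mk fb) (NatTrans.ext (funext fun V => ?_))
  have := h V.unop ((Opens.map fb).obj V.unop) le_rfl le_rfl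
  simp only [pAppLE] at this
  erw [CategoryTheory.Functor.map_id, Category.comp_id, Category.comp_id] at this
  exact this

end appLE

variable {Z X Y P : Scheme.{u}} (i : Z ⟶ X) (j : Z ⟶ Y) (a : X ⟶ P) (b : Y ⟶ P)

/-- The open of `Z` over `W`. -/
abbrev zOpen (W : P.Opens) : Z.Opens := i ⁻¹ᵁ a ⁻¹ᵁ W ⊓ j ⁻¹ᵁ b ⁻¹ᵁ W

/-- Compatible pairs of sections. -/
noncomputable def pairs (W : P.Opens) : Subring (Γ(X, a ⁻¹ᵁ W) × Γ(Y, b ⁻¹ᵁ W)) :=
  RingHom.eqLocus ((i.appLE (a ⁻¹ᵁ W) (zOpen i j a b W) inf_le_left).hom.comp (RingHom.fst _ _))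
    ((j.appLE (b ⁻¹ᵁ W) (zOpen i j a b W) inf_le_right).hom.comp (RingHom.snd _ _))

theorem res_mem_pairs {W' W : P.Opens} (e : W' ≤ W) {p : Γ(X, a ⁻¹ᵁ W) × Γ(Y, b ⁻¹ᵁ W)} (hp : p ∈ pairs i j a b W) :
    (X.presheaf.map ((Opens.map a.base).map (homOfLE e)).op p.1,
      Y.presheaf.map ((Opens.map b.base).map (homOfLE e)).op p.2) ∈ pairs i j a b W' := by
  have hz : zOpen i j a b W' ≤ zOpen i j a b W :=
    inf_le_inf (i.preimage_mono (a.preimage_mono e)) (j.preimage_mono (b.preimage_mono e))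
  have hp' : i.appLE _ _ inf_le_left p.1 = j.appLE _ (zOpen i j a b W) inf_le_right p.2 := hp
  show i.appLE _ _ _ (X.presheaf.map _ p.1) = j.appLE _ _ _ (Y.presheaf.map _ p.2)
  rw [← CommRingCat.comp_apply, ← CommRingCat.comp_apply, Scheme.Hom.map_appLE, Scheme.Hom.map_appLE]
  have h := congrArg (Z.presheaf.map (homOfLE hz).op) hp'
  rw [← CommRingCat.comp_apply, ← CommRingCat.comp_apply, Scheme.Hom.appLE_map, Scheme.Hom.appLE_map] at h
  exact h

theorem pairs_eq {V : P.Opens} {U : Z.Opens} (h1 : U ≤ i ⁻¹ᵁ a ⁻¹ᵁ V) (h2 : U ≤ j ⁻¹ᵁ b ⁻¹ᵁ V)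
    {p : Γ(X, a ⁻¹ᵁ V) × Γ(Y, b ⁻¹ᵁ V)} (hp : p ∈ pairs i j a b V) :
    i.appLE (a ⁻¹ᵁ V) U h1 p.1 = j.appLE (b ⁻¹ᵁ V) U h2 p.2 := by
  have hU : U ≤ zOpen i j a b V := le_inf h1 h2
  have hp' : i.appLE _ _ inf_le_left p.1 = j.appLE _ (zOpen i j a b V) inf_le_right p.2 := hp
  have h := congrArg (Z.presheaf.map (homOfLE hU).op) hp'
  rw [← CommRingCat.comp_apply, ← CommRingCat.comp_apply, Scheme.Hom.appLE_map, Scheme.Hom.appLE_map] at h
  exact h

/-- The restriction of compatible pairs. -/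
noncomputable def pairsRes {W' W : P.Opens} (e : W' ≤ W) : pairs i j a b W →+* pairs i j a b W' :=
  ((((X.presheaf.map ((Opens.map a.base).map (homOfLE e)).op).hom.comp (RingHom.fst _ _)).prod
    ((Y.presheaf.map ((Opens.map b.base).map (homOfLE e)).op).hom.comp (RingHom.snd _ _))).comp
      (pairs i j a b W).subtype).codRestrict _ (fun p => res_mem_pairs i j a b e p.2)

/-- The presheafed space of compatible pairs. -/
noncomputable def pairSpace : PresheafedSpace CommRingCat.{u} where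
  carrier := P.carrier
  presheaf :=
    { obj := fun W => CommRingCat.of (pairs i j a b W.unop)
      map := fun {W W'} e => CommRingCat.ofHom (pairsRes i j a b e.unop.le)
      map_id := fun W => CommRingCat.hom_ext (RingHom.ext fun p => Subtype.ext (Prod.ext
        (RingHom.congr_fun (congrArg CommRingCat.Hom.hom (X.presheaf.map_id _)) p.1.1)
        (RingHom.congr_fun (congrArg CommRingCat.Hom.hom (Y.presheaf.map_id _)) p.1.2)))
      map_comp := fun e e' => CommRingCat.hom_ext (RingHom.ext fun p => Subtype.ext (Prod.ext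
        (RingHom.congr_fun (congrArg CommRingCat.Hom.hom (X.presheaf.map_comp
          ((Opens.map a.base).map e.unop).op ((Opens.map a.base).map e'.unop).op)) p.1.1)
        (RingHom.congr_fun (congrArg CommRingCat.Hom.hom (Y.presheaf.map_comp
          ((Opens.map b.base).map e.unop).op ((Opens.map b.base).map e'.unop).op)) p.1.2))) }

/-- The functor to presheafed spaces. -/
abbrev toPSh : Scheme.{u} ⥤ PresheafedSpace CommRingCat.{u} :=
  Scheme.forgetToLocallyRingedSpace ⋙ LocallyRingedSpace.forgetToSheafedSpace ⋙ SheafedSpace.forgetToPresheafedSpace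

/-- The first leg to the space of pairs. -/
noncomputable def pairFst : toPSh.obj X ⟶ pairSpace i j a b where
  base := a.base
  c := { app := fun W => CommRingCat.ofHom ((RingHom.fst _ _).comp (pairs i j a b W.unop).subtype)
         naturality := fun _ _ _ => rfl }

/-- The second leg to the space of pairs. -/
noncomputable def pairSnd : toPSh.obj Y ⟶ pairSpace i j a b where
  base := b.base
  c := { app := fun W => CommRingCat.ofHom ((RingHom.snd _ _).comp (pairs i j a b W.unop).subtype)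
         naturality := fun _ _ _ => rfl }

variable {i j a b}

theorem pair_condition (w : i ≫ a = j ≫ b) :
    toPSh.map i ≫ pairFst i j a b = toPSh.map j ≫ pairSnd i j a b := by
  refine p_hom_ext (congrArg (fun f : Z ⟶ P => f.base) w) fun V U h1 h2 => ?_
  let Va : Opens (toPSh.obj X) := a ⁻¹ᵁ V
  let Vb : Opens (toPSh.obj Y) := b ⁻¹ᵁ V
  rw [← pAppLE_comp (toPSh.map i) (pairFst i j a b) V Va U le_rfl h1,
    ← pAppLE_comp (toPSh.map j) (pairSnd i j a b) V Vb U le_rfl h2]
  refine CommRingCat.hom_ext (RingHom.ext fun p => ?_)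
  show i.appLE (a ⁻¹ᵁ V) U h1 (X.presheaf.map (𝟙 (op (a ⁻¹ᵁ V))) p.1.1) =
    j.appLE (b ⁻¹ᵁ V) U h2 (Y.presheaf.map (𝟙 (op (b ⁻¹ᵁ V))) p.1.2)
  rw [CategoryTheory.Functor.map_id, CategoryTheory.Functor.map_id]
  exact pairs_eq i j a b (U := U) h1 h2 p.2

/-- Sections of a ringed-space pushout are compatible pairs. -/
theorem bijective_pairs (w : i ≫ a = j ≫ b)
    (hpo : IsPushout ((Scheme.forgetToLocallyRingedSpace ⋙ LocallyRingedSpace.forgetToSheafedSpace).map i)
      ((Scheme.forgetToLocallyRingedSpace ⋙ LocallyRingedSpace.forgetToSheafedSpace).map j)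
      ((Scheme.forgetToLocallyRingedSpace ⋙ LocallyRingedSpace.forgetToSheafedSpace).map a)
      ((Scheme.forgetToLocallyRingedSpace ⋙ LocallyRingedSpace.forgetToSheafedSpace).map b)) (W : P.Opens) :
    (∀ s t : Γ(P, W), a.app W s = a.app W t → b.app W s = b.app W t → s = t) ∧
    ∀ p : pairs i j a b W, ∃ s : Γ(P, W), a.app W s = p.1.1 ∧ b.app W s = p.1.2 := by
  have hp : IsPushout (toPSh.map i) (toPSh.map j) (toPSh.map a) (toPSh.map b) :=
    hpo.map SheafedSpace.forgetToPresheafedSpace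
  have hmem : ∀ (V : P.Opens) (s : Γ(P, V)), (a.app V s, b.app V s) ∈ pairs i j a b V := fun V s => by
    show i.appLE _ (zOpen i j a b V) inf_le_left (a.app V s) = j.appLE _ _ inf_le_right (b.app V s)
    rw [Scheme.Hom.app_eq_appLE, Scheme.Hom.app_eq_appLE, ← CommRingCat.comp_apply, ← CommRingCat.comp_apply,
      Scheme.Hom.appLE_comp_appLE, Scheme.Hom.appLE_comp_appLE]
    simp only [w]
  let σ : ∀ V : P.Opens, Γ(P, V) →+* pairs i j a b V := fun V =>
    ((a.app V).hom.prod (b.app V).hom).codRestrict _ (hmem V)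
  let k' : pairSpace i j a b ⟶ toPSh.obj P :=
    { base := 𝟙 P.carrier
      c := { app := fun V => CommRingCat.ofHom (σ V.unop)
             naturality := fun V V' e => CommRingCat.hom_ext (RingHom.ext fun s => Subtype.ext (Prod.ext
               (RingHom.congr_fun (congrArg CommRingCat.Hom.hom (a.naturality e)) s)
               (RingHom.congr_fun (congrArg CommRingCat.Hom.hom (b.naturality e)) s))) } }
  let k : toPSh.obj P ⟶ pairSpace i j a b := hp.desc (pairFst i j a b) (pairSnd i j a b) (pair_condition w)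
  have hka : toPSh.map a ≫ k = pairFst i j a b := hp.inl_desc _ _ _
  have hkb : toPSh.map b ≫ k = pairSnd i j a b := hp.inr_desc _ _ _
  have hfk' : pairFst i j a b ≫ k' = toPSh.map a := p_hom_ext rfl fun V U h1 h2 => by
    rw [← pAppLE_comp (pairFst i j a b) k' V V U le_rfl h1]
    refine CommRingCat.hom_ext (RingHom.ext fun s => ?_)
    show X.presheaf.map _ (((pairSpace i j a b).presheaf.map (𝟙 _) (σ V s)).1.1) = a.appLE V U h2 s
    rw [CategoryTheory.Functor.map_id]
    rfl
  have hsk' : pairSnd i j a b ≫ k' = toPSh.map b := p_hom_ext rfl fun V U h1 h2 => by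
    rw [← pAppLE_comp (pairSnd i j a b) k' V V U le_rfl h1]
    refine CommRingCat.hom_ext (RingHom.ext fun s => ?_)
    show Y.presheaf.map _ (((pairSpace i j a b).presheaf.map (𝟙 _) (σ V s)).1.2) = b.appLE V U h2 s
    rw [CategoryTheory.Functor.map_id]
    rfl
  have hkk' : k ≫ k' = 𝟙 _ := hp.hom_ext
    (by rw [← Category.assoc, hka, hfk', Category.comp_id]) (by rw [← Category.assoc, hkb, hsk', Category.comp_id])
  have hkb' : k.base = 𝟙 P.carrier := (congrArg (fun f : toPSh.obj P ⟶ toPSh.obj P => f.base) hkk' :)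
  have hle : W ≤ (Opens.map k.base).obj W := by rw [hkb']; exact le_rfl
  let κ := pAppLE k W W hle
  have hκσ : ∀ s : Γ(P, W), κ (σ W s) = s := fun s => by
    have h := RingHom.congr_fun (congrArg CommRingCat.Hom.hom ((pAppLE_comp k k' W W W le_rfl hle).trans
      ((pAppLE_congr hkk' _ _ _).trans (pAppLE_id _ _ _)))) s
    change κ ((pairSpace i j a b).presheaf.map (𝟙 _) (σ W s)) = (toPSh.obj P).presheaf.map (𝟙 _) s at h
    rwa [CategoryTheory.Functor.map_id, CategoryTheory.Functor.map_id] at h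
  refine ⟨fun s t h1 h2 => ?_, fun p => ⟨κ p, ?_, ?_⟩⟩
  · rw [← hκσ s, ← hκσ t, show σ W s = σ W t from Subtype.ext (Prod.ext h1 h2)]
  · have h := RingHom.congr_fun (congrArg CommRingCat.Hom.hom
      ((pAppLE_comp (toPSh.map a) k W W (a ⁻¹ᵁ W) hle le_rfl).trans (pAppLE_congr hka _ _ _))) p
    change X.presheaf.map (𝟙 _) (a.app W (κ p)) = X.presheaf.map (𝟙 _) p.1.1 at h
    rwa [CategoryTheory.Functor.map_id] at h
  · have h := RingHom.congr_fun (congrArg CommRingCat.Hom.hom
      ((pAppLE_comp (toPSh.map b) k W W (b ⁻¹ᵁ W) hle le_rfl).trans (pAppLE_congr hkb _ _ _))) p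
    change Y.presheaf.map (𝟙 _) (b.app W (κ p)) = Y.presheaf.map (𝟙 _) p.1.2 at h
    rwa [CategoryTheory.Functor.map_id] at h

end PinchPO7
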