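import Mathlib
import Groth.Agent.RingPO.BaseChange
import Groth.Agent.RingPO.Sep

universe u
set_option autoImplicit false
open AlgebraicGeometry CategoryTheory CategoryTheory.Limits TopologicalSpace Opposite

namespace PinchPO7
open RingPO

/-- The functor to sheafed spaces. -/
abbrev toSh : Scheme.{u} ⥤ SheafedSpace CommRingCat.{u} :=
  Scheme.forgetToLocallyRingedSpace ⋙ LocallyRingedSpace.forgetToSheafedSpace

/-- A pushout of ringed spaces whose corners are schemes is a pushout of schemes. -/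
theorem isPushout_of_toSh {Z X Y P : Scheme.{u}} {i : Z ⟶ X} {j : Z ⟶ Y} {a : X ⟶ P} {b : Y ⟶ P}
    (h : IsPushout (toSh.map i) (toSh.map j) (toSh.map a) (toSh.map b)) : IsPushout i j a b := by
  haveI : ReflectsColimitsOfShape WalkingSpan LocallyRingedSpace.forgetToSheafedSpace.{u} :=
    reflectsColimitsOfShape_of_reflectsIsomorphisms
  haveI : (toSh : Scheme.{u} ⥤ _).Faithful := Functor.Faithful.comp _ _
  have w : i ≫ a = j ≫ b := toSh.map_injective (by rw [Functor.map_comp, Functor.map_comp]; exact h.w)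
  refine IsPushout.of_map Scheme.forgetToLocallyRingedSpace w ?_
  exact IsPushout.of_map LocallyRingedSpace.forgetToSheafedSpace
    (by rw [← Functor.map_comp, ← Functor.map_comp, w]) h

section appLE
variable {X Y W : SheafedSpace CommRingCat.{u}}

/-- Pullback of sections followed by restriction. -/
noncomputable def sAppLE (f : X ⟶ Y) (V : Opens Y) (U : Opens X) (h : U ≤ (Opens.map f.hom.base).obj V) :
    Y.presheaf.obj (op V) ⟶ X.presheaf.obj (op U) :=
  f.hom.c.app (op V) ≫ X.presheaf.map (homOfLE h).op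

theorem sAppLE_congr {f g : X ⟶ Y} (e : f = g) (V : Opens Y) (U : Opens X) (h : U ≤ (Opens.map f.hom.base).obj V) :
    sAppLE f V U h = sAppLE g V U (e ▸ h) := by
  subst e; rfl

theorem sAppLE_map (f : X ⟶ Y) (V : Opens Y) {U U' : Opens X} (h : U ≤ (Opens.map f.hom.base).obj V) (e : U' ≤ U) :
    sAppLE f V U h ≫ X.presheaf.map (homOfLE e).op = sAppLE f V U' (e.trans h) := by
  rw [sAppLE, sAppLE, Category.assoc, ← X.presheaf.map_comp]; rfl

theorem map_sAppLE (f : X ⟶ Y) {V V' : Opens Y} (U : Opens X) (h : U ≤ (Opens.map f.hom.base).obj V) (e : V ≤ V') :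
    Y.presheaf.map (homOfLE e).op ≫ sAppLE f V U h =
      sAppLE f V' U (h.trans ((Opens.map f.hom.base).map (homOfLE e)).le) := by
  rw [sAppLE, sAppLE, f.hom.c.naturality_assoc]
  congr 1
  show X.presheaf.map _ ≫ X.presheaf.map _ = _
  rw [← X.presheaf.map_comp]; rfl

theorem sAppLE_comp (f : X ⟶ Y) (g : Y ⟶ W) (V : Opens W) (U' : Opens Y) (U : Opens X)
    (h1 : U' ≤ (Opens.map g.hom.base).obj V) (h2 : U ≤ (Opens.map f.hom.base).obj U') :
    sAppLE g V U' h1 ≫ sAppLE f U' U h2 =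
      sAppLE (f ≫ g) V U (h2.trans ((Opens.map f.hom.base).map (homOfLE h1)).le) := by
  rw [sAppLE, Category.assoc, map_sAppLE, sAppLE, sAppLE, ← Category.assoc]
  rfl

theorem sh_hom_ext {f g : X ⟶ Y} (e : f.hom.base = g.hom.base)
    (h : ∀ (V : Opens Y) (U : Opens X) (h1 : U ≤ (Opens.map f.hom.base).obj V)
      (h2 : U ≤ (Opens.map g.hom.base).obj V), sAppLE f V U h1 = sAppLE g V U h2) : f = g := by
  obtain ⟨⟨fb, fc⟩⟩ := f
  obtain ⟨⟨gb, gc⟩⟩ := g
  dsimp at e
  subst e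
  refine congrArg InducedCategory.homMk (congrArg (PresheafedSpace.Hom.mk fb) ?_)
  refine NatTrans.ext (funext fun V => ?_)
  have := h V.unop ((Opens.map fb).obj V.unop) le_rfl le_rfl
  simp only [sAppLE] at this
  erw [CategoryTheory.Functor.map_id, Category.comp_id, Category.comp_id] at this
  exact this

end appLE

/-- The data making a square of schemes a pushout of ringed spaces. -/
structure IsGluedSquare {Z X Y P : Scheme.{u}} (i : Z ⟶ X) (j : Z ⟶ Y) (a : X ⟶ P) (b : Y ⟶ P) : Prop where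
  w : i ≫ a = j ≫ b
  cover : ∀ x : P, x ∈ Set.range a ∪ Set.range b
  fib : ∀ x x' : X, a x = a x' → x = x' ∨ ∃ y : Y, a x = b y
  inj : Function.Injective b
  cart : ∀ (x : X) (y : Y), a x = b y → ∃ z : Z, i z = x ∧ j z = y
  open_iff : ∀ s : Set P, IsOpen (a ⁻¹' s) → IsOpen (b ⁻¹' s) → IsOpen s
  sec_ext : ∀ (W : P.Opens) (s t : Γ(P, W)), a.app W s = a.app W t → b.app W s = b.app W t → s = t
  sec_glue : ∀ (W : P.Opens) (x : Γ(X, a ⁻¹ᵁ W)) (y : Γ(Y, b ⁻¹ᵁ W))
    (h : i ⁻¹ᵁ a ⁻¹ᵁ W ≤ j ⁻¹ᵁ b ⁻¹ᵁ W),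
    i.appLE (a ⁻¹ᵁ W) (i ⁻¹ᵁ a ⁻¹ᵁ W) le_rfl x = j.appLE (b ⁻¹ᵁ W) (i ⁻¹ᵁ a ⁻¹ᵁ W) h y →
      ∃ s : Γ(P, W), a.app W s = x ∧ b.app W s = y

section desc
variable {Z X Y P : Scheme.{u}} {i : Z ⟶ X} {j : Z ⟶ Y} {a : X ⟶ P} {b : Y ⟶ P}

theorem IsGluedSquare.preimage_le (G : IsGluedSquare i j a b) (W : P.Opens) :
    i ⁻¹ᵁ a ⁻¹ᵁ W ≤ j ⁻¹ᵁ b ⁻¹ᵁ W := by
  rw [← Scheme.Hom.comp_preimage, ← Scheme.Hom.comp_preimage, G.w]

theorem IsGluedSquare.sh_hom_ext' (G : IsGluedSquare i j a b) {K : SheafedSpace CommRingCat.{u}}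
    {k k' : toSh.obj P ⟶ K} (h1 : toSh.map a ≫ k = toSh.map a ≫ k') (h2 : toSh.map b ≫ k = toSh.map b ≫ k') :
    k = k' := by
  have e : k.hom.base = k'.hom.base := by
    refine TopCat.hom_ext (ContinuousMap.ext fun x => ?_)
    rcases G.cover x with ⟨v, rfl⟩ | ⟨v, rfl⟩
    · exact congrArg (fun f : toSh.obj X ⟶ K => f.hom.base v) h1
    · exact congrArg (fun f : toSh.obj Y ⟶ K => f.hom.base v) h2
  refine sh_hom_ext e fun V U hk hk' => ?_
  refine CommRingCat.hom_ext (RingHom.ext fun s => G.sec_ext U _ _ ?_ ?_)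
  · have := RingHom.congr_fun (congrArg CommRingCat.Hom.hom ((sAppLE_comp (toSh.map a) k V U (a ⁻¹ᵁ U) hk le_rfl).trans
      ((sAppLE_congr h1 _ _ _).trans (sAppLE_comp (toSh.map a) k' V U (a ⁻¹ᵁ U) hk' le_rfl).symm))) s
    rw [Scheme.Hom.app_eq_appLE]
    exact this
  · have := RingHom.congr_fun (congrArg CommRingCat.Hom.hom ((sAppLE_comp (toSh.map b) k V U (b ⁻¹ᵁ U) hk le_rfl).trans
      ((sAppLE_congr h2 _ _ _).trans (sAppLE_comp (toSh.map b) k' V U (b ⁻¹ᵁ U) hk' le_rfl).symm))) s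
    rw [Scheme.Hom.app_eq_appLE]
    exact this

theorem IsGluedSquare.exists_sh_desc (G : IsGluedSquare i j a b) {K : SheafedSpace CommRingCat.{u}}
    (g₁ : toSh.obj X ⟶ K) (g₂ : toSh.obj Y ⟶ K) (hg : toSh.map i ≫ g₁ = toSh.map j ≫ g₂) :
    ∃ k : toSh.obj P ⟶ K, toSh.map a ≫ k = g₁ ∧ toSh.map b ≫ k = g₂ := by
  classical
  have hgz : ∀ z : Z, g₁.hom.base (i z) = g₂.hom.base (j z) := fun z =>
    congrArg (fun f : toSh.obj Z ⟶ K => f.hom.base z) hg
  have hcompat : ∀ (x : X) (y : Y), a x = b y → g₁.hom.base x = g₂.hom.base y := fun x y h => by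
    obtain ⟨z, rfl, rfl⟩ := G.cart x y h
    exact hgz z
  let kf : P → K := fun x =>
    if h : x ∈ Set.range b then g₂.hom.base h.choose
    else g₁.hom.base (Or.resolve_right (G.cover x) h).choose
  have hkb : ∀ y, kf (b y) = g₂.hom.base y := fun y => by
    have h : b y ∈ Set.range b := ⟨y, rfl⟩
    simp only [kf, dif_pos h]
    rw [G.inj h.choose_spec]
  have hka : ∀ x, kf (a x) = g₁.hom.base x := fun x => by
    by_cases h : a x ∈ Set.range b
    · obtain ⟨y, hy⟩ := h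
      rw [← hy, hkb]
      exact (hcompat x y hy.symm).symm
    · simp only [kf, dif_neg h]
      have hc := (Or.resolve_right (G.cover (a x)) h).choose_spec
      rcases G.fib _ _ hc with e | ⟨y, hy⟩
      · exact congrArg _ e
      · exact absurd ⟨y, hy.symm.trans hc⟩ h
  have hcont : Continuous kf := ⟨fun s hs => G.open_iff _
    (by
      have e : a ⁻¹' (kf ⁻¹' s) = g₁.hom.base ⁻¹' s := Set.ext fun x => by
        show kf (a x) ∈ s ↔ _
        rw [hka]; rfl
      rw [e]; exact hs.preimage g₁.hom.base.hom.continuous)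
    (by
      have e : b ⁻¹' (kf ⁻¹' s) = g₂.hom.base ⁻¹' s := Set.ext fun x => by
        show kf (b x) ∈ s ↔ _
        rw [hkb]; rfl
      rw [e]; exact hs.preimage g₂.hom.base.hom.continuous)⟩
  let kb : (toSh.obj P).carrier ⟶ K.carrier := TopCat.ofHom ⟨kf, hcont⟩
  have ha : ∀ V : Opens K, a ⁻¹ᵁ ((Opens.map kb).obj V) ≤ (Opens.map g₁.hom.base).obj V := fun V x hx => by
    have hx' : kf (a x) ∈ V := hx
    rw [hka] at hx'; exact hx'
  have hb : ∀ V : Opens K, b ⁻¹ᵁ ((Opens.map kb).obj V) ≤ (Opens.map g₂.hom.base).obj V := fun V x hx => by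
    have hx' : kf (b x) ∈ V := hx
    rw [hkb] at hx'; exact hx'
  let x₀ : ∀ V : Opens K, K.presheaf.obj (op V) ⟶ Γ(X, a ⁻¹ᵁ ((Opens.map kb).obj V)) := fun V => sAppLE g₁ V _ (ha V)
  let y₀ : ∀ V : Opens K, K.presheaf.obj (op V) ⟶ Γ(Y, b ⁻¹ᵁ ((Opens.map kb).obj V)) := fun V => sAppLE g₂ V _ (hb V)
  have hxy : ∀ (V : Opens K) (s : K.presheaf.obj (op V)),
      ∃ t : Γ(P, (Opens.map kb).obj V), a.app _ t = x₀ V s ∧ b.app _ t = y₀ V s := fun V s => by
    refine G.sec_glue _ _ _ (G.preimage_le _) ?_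
    exact RingHom.congr_fun (congrArg CommRingCat.Hom.hom
      ((sAppLE_comp (toSh.map i) g₁ V (a ⁻¹ᵁ ((Opens.map kb).obj V)) _ (ha V) le_rfl).trans
        ((sAppLE_congr hg _ _ _).trans
          (sAppLE_comp (toSh.map j) g₂ V (b ⁻¹ᵁ ((Opens.map kb).obj V)) _ (hb V) (G.preimage_le _)).symm))) s
  choose t hta htb using hxy
  let cV : ∀ V : Opens K, K.presheaf.obj (op V) ⟶ Γ(P, (Opens.map kb).obj V) := fun V => CommRingCat.ofHom
    { toFun := t V
      map_one' := G.sec_ext _ _ _ (by simp [hta]) (by simp [htb])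
      map_mul' := fun p q => G.sec_ext _ _ _ (by simp [hta]) (by simp [htb])
      map_zero' := G.sec_ext _ _ _ (by simp [hta]) (by simp [htb])
      map_add' := fun p q => G.sec_ext _ _ _ (by simp [hta]) (by simp [htb]) }
  have hnat : ∀ (V V' : Opens K) (e : V ≤ V'),
      K.presheaf.map (homOfLE e).op ≫ cV V = cV V' ≫ P.presheaf.map ((Opens.map kb).map (homOfLE e)).op := by
    intro V V' e
    refine CommRingCat.hom_ext (RingHom.ext fun s => G.sec_ext _ _ _ ?_ ?_)
    · refine (hta V _).trans ?_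
      have h1 := RingHom.congr_fun (congrArg CommRingCat.Hom.hom
        (map_sAppLE g₁ (a ⁻¹ᵁ ((Opens.map kb).obj V)) (ha V) e)) s
      have h2 := RingHom.congr_fun (congrArg CommRingCat.Hom.hom
        (sAppLE_map g₁ V' (ha V') (U' := a ⁻¹ᵁ ((Opens.map kb).obj V))
          (a.preimage_mono ((Opens.map kb).map (homOfLE e)).le))) s
      refine h1.trans (h2.symm.trans ?_)
      show X.presheaf.map _ (x₀ V' s) = _
      rw [← hta V' s]
      exact (RingHom.congr_fun (congrArg CommRingCat.Hom.hom (a.naturality ((Opens.map kb).map (homOfLE e)).op))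
        (t V' s)).symm
    · refine (htb V _).trans ?_
      have h1 := RingHom.congr_fun (congrArg CommRingCat.Hom.hom
        (map_sAppLE g₂ (b ⁻¹ᵁ ((Opens.map kb).obj V)) (hb V) e)) s
      have h2 := RingHom.congr_fun (congrArg CommRingCat.Hom.hom
        (sAppLE_map g₂ V' (hb V') (U' := b ⁻¹ᵁ ((Opens.map kb).obj V))
          (b.preimage_mono ((Opens.map kb).map (homOfLE e)).le))) s
      refine h1.trans (h2.symm.trans ?_)
      show Y.presheaf.map _ (y₀ V' s) = _
      rw [← htb V' s]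
      exact (RingHom.congr_fun (congrArg CommRingCat.Hom.hom (b.naturality ((Opens.map kb).map (homOfLE e)).op))
        (t V' s)).symm
  let k : toSh.obj P ⟶ K := InducedCategory.homMk
    { base := kb
      c := { app := fun V => cV V.unop
             naturality := fun V V' e => hnat V'.unop V.unop e.unop.le } }
  refine ⟨k, ?_, ?_⟩
  · refine sh_hom_ext (TopCat.hom_ext (ContinuousMap.ext hka)) fun V U h1 h2 => ?_
    refine (sAppLE_comp (toSh.map a) k V ((Opens.map kb).obj V) U le_rfl h1).symm.trans ?_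
    refine CommRingCat.hom_ext (RingHom.ext fun s => ?_)
    show a.appLE ((Opens.map kb).obj V) U h1 ((toSh.obj P).presheaf.map (𝟙 _) (t V s)) = sAppLE g₁ V U h2 s
    rw [CategoryTheory.Functor.map_id]
    show X.presheaf.map (homOfLE h1).op (a.app _ (t V s)) = _
    rw [hta]
    exact RingHom.congr_fun (congrArg CommRingCat.Hom.hom (sAppLE_map g₁ V (ha V) h1)) s
  · refine sh_hom_ext (TopCat.hom_ext (ContinuousMap.ext hkb)) fun V U h1 h2 => ?_
    refine (sAppLE_comp (toSh.map b) k V ((Opens.map kb).obj V) U le_rfl h1).symm.trans ?_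
    refine CommRingCat.hom_ext (RingHom.ext fun s => ?_)
    show b.appLE ((Opens.map kb).obj V) U h1 ((toSh.obj P).presheaf.map (𝟙 _) (t V s)) = sAppLE g₂ V U h2 s
    rw [CategoryTheory.Functor.map_id]
    show Y.presheaf.map (homOfLE h1).op (b.app _ (t V s)) = _
    rw [htb]
    exact RingHom.congr_fun (congrArg CommRingCat.Hom.hom (sAppLE_map g₂ V (hb V) h1)) s

/-- A glued square of schemes is a pushout of ringed spaces. -/
theorem IsGluedSquare.isPushout (G : IsGluedSquare i j a b) :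
    IsPushout (toSh.map i) (toSh.map j) (toSh.map a) (toSh.map b) := by
  have w : toSh.map i ≫ toSh.map a = toSh.map j ≫ toSh.map b := by
    rw [← Functor.map_comp, ← Functor.map_comp, G.w]
  choose d hd1 hd2 using fun s : PushoutCocone (toSh.map i) (toSh.map j) => G.exists_sh_desc s.inl s.inr s.condition
  exact ⟨⟨w⟩, ⟨PushoutCocone.IsColimit.mk _ d hd1 hd2
    (fun s m hm1 hm2 => G.sh_hom_ext' (hm1.trans (hd1 s).symm) (hm2.trans (hd2 s).symm))⟩⟩

end desc

end PinchPO7
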