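import Mathlib
import Groth.Agent.RingPO.BaseChange
import Groth.Agent.RingPO.Sep

universe u
set_option autoImplicit false
open AlgebraicGeometry CategoryTheory CategoryTheory.Limits TopologicalSpace

namespace PinchPO7
open RingPO

variable {X Y T Z : Scheme.{u}} (f : X ⟶ Y) (t : T ⟶ Y) (ξ : Z ⟶ T) (ι : Z ⟶ X)

/-- The chart over a standard affine open. -/
noncomputable def stdChart [IsAffineHom t] (hsq : ι ≫ f = ξ ≫ t) {U : Y.Opens} (hU : IsAffineOpen U) {V : X.Opens}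
    (hV : IsAffineOpen V) (hVU : V ≤ f ⁻¹ᵁ U) (hz : ∀ z : Z, (ξ ≫ t).base z ∈ U → ι.base z ∈ V) : Chart ι ξ :=
  ⟨V, t ⁻¹ᵁ U, hV, hU.preimage t, by
    ext z
    refine ⟨fun h => ?_, fun h => hz z h⟩
    have h1 : f (ι z) ∈ U := hVU h
    show (ξ ≫ t) z ∈ U
    rw [← hsq]
    exact h1⟩

/-- The standard hypothesis gives Ferrand charts. -/
theorem charts_of_std [IsAffineHom t] (hsq : ι ≫ f = ξ ≫ t)
    (hstd : ∀ y : Y, ∃ U : Y.Opens, IsAffineOpen U ∧ y ∈ U ∧ ∃ V : X.Opens, IsAffineOpen V ∧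
      V ≤ f ⁻¹ᵁ U ∧ ∀ z : Z, (ξ ≫ t).base z ∈ U → ι.base z ∈ V) (x : T) :
    ∃ c : Chart ι ξ, x ∈ c.V := by
  obtain ⟨U, hU, hxU, V, hV, hVU, hz⟩ := hstd (t x)
  exact ⟨stdChart f t ξ ι hsq hU hV hVU hz, hxU⟩

end PinchPO7

namespace PinchPO7

/-- Universal closedness descends along a jointly surjective pair. -/
theorem universallyClosed_of_pair {X T P Y : Scheme.{u}} (a : X ⟶ P) (b : T ⟶ P) (p : P ⟶ Y)
    (hsurj : ∀ x : P, x ∈ Set.range a ∪ Set.range b) [UniversallyClosed (a ≫ p)] [UniversallyClosed (b ≫ p)] :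
    UniversallyClosed p := by
  refine ⟨?_⟩
  intro P' Y' g' g p' hpb K hK
  have hcl : ∀ {W : Scheme.{u}} (c : W ⟶ P), UniversallyClosed (c ≫ p) →
      IsClosedMap (pullback.snd c g' ≫ p') := by
    intro W c hc
    have h1 := (IsPullback.of_hasPullback c g').paste_vert hpb.flip
    haveI := hc
    haveI : UniversallyClosed (pullback.snd c g' ≫ p') :=
      MorphismProperty.of_isPullback (P := @UniversallyClosed) h1 inferInstance
    exact (pullback.snd c g' ≫ p').isClosedMap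
  have hK' : p' '' K = (pullback.snd a g' ≫ p') '' (pullback.snd a g' ⁻¹' K) ∪
      (pullback.snd b g' ≫ p') '' (pullback.snd b g' ⁻¹' K) := by
    apply subset_antisymm
    · rintro _ ⟨x, hx, rfl⟩
      rcases hsurj (g' x) with h | h
      · obtain ⟨w, hw⟩ := (Scheme.Pullback.range_snd a g').ge (show x ∈ g' ⁻¹' Set.range a from h)
        exact Or.inl ⟨w, show pullback.snd a g' w ∈ K from hw ▸ hx, congrArg p' hw⟩
      · obtain ⟨w, hw⟩ := (Scheme.Pullback.range_snd b g').ge (show x ∈ g' ⁻¹' Set.range b from h)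
        exact Or.inr ⟨w, show pullback.snd b g' w ∈ K from hw ▸ hx, congrArg p' hw⟩
    · rintro _ (⟨w, hw, rfl⟩ | ⟨w, hw, rfl⟩) <;> exact ⟨_, hw, rfl⟩
  show IsClosed (p' '' K)
  rw [hK']
  exact (hcl a inferInstance _ (hK.preimage (pullback.snd a g').continuous)).union
    (hcl b inferInstance _ (hK.preimage (pullback.snd b g').continuous))

/-- Quasi-compactness descends along a jointly surjective pair. -/
theorem quasiCompact_of_pair {X T P Y : Scheme.{u}} (a : X ⟶ P) (b : T ⟶ P) (p : P ⟶ Y)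
    (hsurj : ∀ x : P, x ∈ Set.range a ∪ Set.range b) [QuasiCompact (a ≫ p)] [QuasiCompact (b ≫ p)] :
    QuasiCompact p := by
  refine (quasiCompact_iff _).mpr fun K hK hKc => ?_
  have hK' : p ⁻¹' K = a '' ((a ≫ p) ⁻¹' K) ∪ b '' ((b ≫ p) ⁻¹' K) := by
    apply subset_antisymm
    · intro x hx
      rcases hsurj x with ⟨w, rfl⟩ | ⟨w, rfl⟩
      · exact Or.inl ⟨w, hx, rfl⟩
      · exact Or.inr ⟨w, hx, rfl⟩
    · rintro _ (⟨w, hw, rfl⟩ | ⟨w, hw, rfl⟩) <;> exact hw
  rw [hK']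
  exact ((QuasiCompact.isCompact_preimage (f := a ≫ p) _ hK hKc).image a.continuous).union
    ((QuasiCompact.isCompact_preimage (f := b ≫ p) _ hK hKc).image b.continuous)

end PinchPO7
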