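import Groth.Prelude.Def_W4c3jacimperfPinch
import Groth.Agent.PinchPO7.Std
import Groth.Agent.PinchPO7.CokerBC
import Groth.Agent.PinchPO7.FlatInj

universe u
set_option autoImplicit false
open AlgebraicGeometry CategoryTheory CategoryTheory.Limits TopologicalSpace

namespace PinchPO7
open RingPO

variable {X Y T Z : Scheme.{u}} {f : X ⟶ Y} {t : T ⟶ Y} {ξ : Z ⟶ T} {ι : Z ⟶ X}

theorem cokerFlat_leg [Flat ξ] [Surjective ξ] {U₀ : Y.Opens}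
    (hv : @Pinch.CokerProjective Γ(Y, U₀) Γ(Z, (ξ ≫ t) ⁻¹ᵁ U₀) Γ(T, t ⁻¹ᵁ U₀) _ _ _
      ((ξ ≫ t).app U₀).hom.toAlgebra (ξ.app (t ⁻¹ᵁ U₀)).hom)
    (W : T.Opens) (W' : Z.Opens) (h : W ≤ t ⁻¹ᵁ U₀) (h' : W' ≤ ξ ⁻¹ᵁ W) (eW : W = t ⁻¹ᵁ U₀) (eW' : W' = ξ ⁻¹ᵁ W) :
    CokerFlat (t.appLE U₀ W h).hom (ξ.appLE W W' h').hom := by
  subst eW'
  subst eW
  rw [← Scheme.Hom.app_eq_appLE, ← Scheme.Hom.app_eq_appLE]
  refine ⟨app_injective ξ _, fun alg halg => ?_⟩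
  have e : alg = ((ξ ≫ t).app U₀).hom.toAlgebra := Algebra.algebra_ext _ _ fun r => halg r
  subst e
  letI : Algebra Γ(Y, U₀) Γ(Z, ξ ⁻¹ᵁ t ⁻¹ᵁ U₀) := ((ξ ≫ t).app U₀).hom.toAlgebra
  haveI : Module.Projective Γ(Y, U₀)
      (Γ(Z, ξ ⁻¹ᵁ t ⁻¹ᵁ U₀) ⧸ Submodule.span Γ(Y, U₀) (Set.range (ξ.app (t ⁻¹ᵁ U₀)).hom)) := hv
  exact Module.Flat.of_projective

theorem cokerFlat_of_subsingleton {R B A : Type u} [CommRing R] [CommRing B] [CommRing A] [Subsingleton B]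
    [Subsingleton A] (ρ : R →+* B) (q : B →+* A) : CokerFlat ρ q := by
  refine ⟨fun a b _ => Subsingleton.elim a b, fun alg _ => ?_⟩
  letI := alg
  haveI : Module.Projective R (A ⧸ Submodule.span R (Set.range q)) := inferInstance
  exact Module.Flat.of_projective

theorem std_loc [IsAffineHom t] [IsClosedImmersion ι] [Flat ξ] [Surjective ξ] (hsq : ι ≫ f = ξ ≫ t)
    (hstd : ∀ y : Y, ∃ U : Y.Opens, IsAffineOpen U ∧ y ∈ U ∧ ∃ V : X.Opens, IsAffineOpen V ∧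
      V ≤ f ⁻¹ᵁ U ∧ ∀ z : Z, (ξ ≫ t).base z ∈ U → ι.base z ∈ V)
    (hv : ∀ U : Y.affineOpens, @Pinch.CokerProjective Γ(Y, U) Γ(Z, (ξ ≫ t) ⁻¹ᵁ U) Γ(T, t ⁻¹ᵁ U) _ _ _
      ((ξ ≫ t).app U).hom.toAlgebra (ξ.app (t ⁻¹ᵁ U)).hom)
    {P : Scheme.{u}} {a : X ⟶ P} {b : T ⟶ P} (h : IsPushout ι ξ a b) [IsAffineHom a] [IsAffineHom b]
    (p : P ⟶ Y) (hap : a ≫ p = f) (hbp : b ≫ p = t) (x : P) :
    ∃ (Sa : Y.Opens) (_ : IsAffineOpen Sa) (U : P.Opens) (hU : IsAffineOpen U) (eS : U ≤ p ⁻¹ᵁ Sa),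
      x ∈ U ∧ CokerFlat ((b.appLE U (b ⁻¹ᵁ U) le_rfl).hom.comp (p.appLE Sa U eS).hom) (chartOver h hU).q := by
  have hY := charts_of_std f t ξ ι hsq hstd
  by_cases hx : x ∈ Set.range b
  · obtain ⟨y, rfl⟩ := hx
    obtain ⟨U₀, hU₀, hyU, V, hV, hVU, hz⟩ := hstd (t y)
    let c := stdChart f t ξ ι hsq hU₀ hV hVU hz
    obtain ⟨φ, hφ, hcov, h1, h2, h3, h4⟩ := exists_fibreProd_chart h hY
    haveI := hφ c
    let U : P.Opens := (φ c).opensRange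
    have hU : IsAffineOpen U := isAffineOpen_opensRange (φ c)
    have hbU : b ⁻¹ᵁ U = t ⁻¹ᵁ U₀ := SetLike.coe_injective (h4 c)
    have haU : a ⁻¹ᵁ U = V := SetLike.coe_injective (h3 c)
    have eS : U ≤ p ⁻¹ᵁ U₀ := by
      intro w hw
      rcases exists_preimage_point h hY w with ⟨v, rfl⟩ | ⟨v, rfl⟩
      · have h5 : v ∈ f ⁻¹ᵁ U₀ := hVU (haU ▸ hw)
        show (a ≫ p) v ∈ U₀
        rw [hap]; exact h5
      · have h5 : v ∈ t ⁻¹ᵁ U₀ := hbU ▸ hw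
        show (b ≫ p) v ∈ U₀
        rw [hbp]; exact h5
    refine ⟨U₀, hU₀, U, hU, eS, hbU.ge hyU, ?_⟩
    have e : (b.appLE U (b ⁻¹ᵁ U) le_rfl).hom.comp (p.appLE U₀ U eS).hom = (t.appLE U₀ (b ⁻¹ᵁ U) hbU.le).hom := by
      rw [← CommRingCat.hom_comp, Scheme.Hom.appLE_comp_appLE]
      simp only [hbp]
    rw [e]
    exact cokerFlat_leg (hv ⟨U₀, hU₀⟩) _ _ hbU.le _ hbU (chartOver h hU).eq
  · haveI : IsClosedImmersion b := isClosedImmersion_inr h hY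
    obtain ⟨Sa, hSa, hxS, -⟩ := exists_isAffineOpen_mem_and_subset (x := p x) (U := (⊤ : Y.Opens)) (by simp)
    obtain ⟨U, hU, hxU, hUs⟩ := exists_isAffineOpen_mem_and_subset (x := x)
      (U := p ⁻¹ᵁ Sa ⊓ ⟨_, b.isClosedEmbedding.isClosed_range.isOpen_compl⟩) ⟨hxS, hx⟩
    refine ⟨Sa, hSa, U, hU, fun w hw => (hUs hw).1, hxU, ?_⟩
    have hb0 : b ⁻¹ᵁ U = ⊥ := eq_bot_iff.mpr fun v hv => (hUs hv).2 ⟨v, rfl⟩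
    have hz0 : ι ⁻¹ᵁ a ⁻¹ᵁ U = ⊥ := (chartOver h hU).eq.trans (by
      show ξ ⁻¹ᵁ b ⁻¹ᵁ U = ⊥
      rw [hb0]; rfl)
    haveI : Subsingleton Γ(T, b ⁻¹ᵁ U) := by rw [hb0]; infer_instance
    haveI : Subsingleton Γ(Z, ι ⁻¹ᵁ a ⁻¹ᵁ U) := by rw [hz0]; infer_instance
    exact cokerFlat_of_subsingleton (B := Γ(T, b ⁻¹ᵁ U)) (A := Γ(Z, ι ⁻¹ᵁ a ⁻¹ᵁ U)) _ _

end PinchPO7
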